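import Groth.Agent.HTop.K343.ExtVan

/-!
# Descent of sections of `π⁻¹ F` along surjective morphisms satisfying base change in degree zero
-/

set_option autoImplicit false
universe w u
open CategoryTheory CategoryTheory.Limits AlgebraicGeometry Opposite

noncomputable section

namespace K343.Glue

open Groth.Agent.Etrest Groth.Agent.Etrest.BigEtSite Groth.Agent.Etrest.BigPush K343.Basic K343.Res K343.Push
open K343.BigAdj K343.ExtVan

attribute [local instance] isGrothendieckAbelian_AbK

variable {U V : Scheme.{u}} (f : V ⟶ U)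

/-- restriction to the big étale site of `V`. -/
abbrev mapResE : AbE U ⥤ AbE V :=
  (Over.map f).sheafPushforwardContinuous AddCommGrpCat.{u + 1} (JE V) (JE U)

/-- `f_big⁻¹` is the restriction. -/
abbrev mapPushAdj : mapResE f ⊣ pushBigE f :=
  (Over.mapPullbackAdj f).sheafPushforwardContinuous (JE V) (JE U)

/-- Inverse image commutes with restriction. -/
def pullMapIso : EtCoh.pull f ⋙ aPullE V ≅ aPullE U ⋙ mapResE f :=
  Adjunction.leftAdjointUniq ((EtCoh.pullPushAdj f).comp (aAdjE V))
    (((aAdjE U).comp (mapPushAdj f)).ofNatIsoRight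
      (NatIso.ofComponents (fun _ => Iso.refl _) (fun φ => by
        simp only [Iso.refl_hom]
        rfl)))

/-- The unit is given by restriction along the first projection. -/
theorem unit_apply (A : AbE U) (T : Over U) (s : A.obj.obj (op T)) :
    ((mapPushAdj f).unit.app A).hom.app (op T) s = A.obj.map ((Over.mapPullbackAdj f).counit.app T).op s := rfl

/-- second projection -/
def sndH (W : Over V) : (Over.map f).obj W ⟶ Over.mk f := Over.homMk W.hom rfl

theorem map_sndH {W W' : Over V} (k : W ⟶ W') : (Over.map f).map k ≫ sndH f W' = sndH f W := by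
  ext
  exact Over.w k

/-- Sections of an exact sequence. -/
theorem exists_of_exact {C : Type (u + 1)} [Category.{u} C] {J : GrothendieckTopology C}
    [HasSheafify J AddCommGrpCat.{u + 1}] (S : ShortComplex (Sheaf J AddCommGrpCat.{u + 1})) (hS : S.Exact)
    (hf : Mono S.f) (T : C) (b : S.X₂.obj.obj (op T)) (hb : S.g.hom.app (op T) b = 0) :
    ∃ a : S.X₁.obj.obj (op T), S.f.hom.app (op T) a = b := by
  let E : Sheaf J AddCommGrpCat.{u + 1} ⥤ AddCommGrpCat.{u + 1} :=
    sheafToPresheaf J AddCommGrpCat.{u + 1} ⋙ (evaluation _ _).obj (op T)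
  have : E.Additive := { }
  have : PreservesFiniteLimits E := comp_preservesFiniteLimits _ _
  have h1 : (S.map E).Exact := by
    have := (hS.map_of_mono_of_preservesKernel E hf inferInstance)
    exact this
  rw [ShortComplex.ab_exact_iff] at h1
  exact h1 b hb

theorem sep {A : AbE U} {F : EtCoh.Ab U} (e : A ≅ (aPullE U).obj F) {T T' : Over U} (g : T' ⟶ T)
    (hg : Function.Surjective g.left) (a : A.obj.obj (op T)) (h : A.obj.map g.op a = 0) : a = 0 := by
  have h1 : e.hom.hom.app (op T) a = 0 := by
    apply eq_of_jointly_surjective F (T := T)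
    intro x
    obtain ⟨y, hy⟩ := hg x
    refine ⟨T', g, ⟨y, hy⟩, ?_⟩
    rw [res_zero]
    have h2 := ConcreteCategory.congr_hom (e.hom.hom.naturality g.op) a
    rw [ConcreteCategory.comp_apply, ConcreteCategory.comp_apply, h, map_zero] at h2
    exact h2.symm
  have h3 : a = e.inv.hom.app (op T) (e.hom.hom.app (op T) a) := by
    have h4 := congrArg (fun k => k.hom.app (op T)) e.hom_inv_id
    exact (ConcreteCategory.congr_hom h4 a).symm
  rw [h3, h1, map_zero]

theorem counit_surjective [Surjective f] (T : Over U) :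
    Function.Surjective ((Over.mapPullbackAdj f).counit.app T).left := by
  have h : Surjective (pullback.fst T.hom f) := inferInstance
  exact h.surj

set_option maxHeartbeats 1000000 in
theorem exists_glue [Surjective f]
    (h0 : ∀ (F : EtCoh.Ab V) (T X' : Scheme.{u}) (t : T ⟶ U) (f' : X' ⟶ T) (t' : X' ⟶ V) (hp : IsPullback t' f' f t), 
      IsIso (EtCoh.baseChange0 f t f' t' hp.w F))
    (A : AbE U) (F : EtCoh.Ab U) (e : A ≅ (aPullE U).obj F) (s : A.obj.obj (op (Over.mk f)))
    (hs : ∀ (T : Over U) (x y : T ⟶ Over.mk f), A.obj.map x.op s = A.obj.map y.op s) :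
    ∃ a : A.obj.obj (op (Over.mk (𝟙 U))), A.obj.map (toTop f).op a = s := by
  let B : AbE U := (pushBigE f).obj ((mapResE f).obj A)
  let η : A ⟶ B := (mapPushAdj f).unit.app A
  let G : EtCoh.Ab U := (EtCoh.push f).obj ((EtCoh.pull f).obj F)
  have hc := isIso_compE f ((EtCoh.pull f).obj F) (h0 _)
  let eB : B ≅ (aPullE U).obj G :=
    (pushBigE f).mapIso ((mapResE f).mapIso e ≪≫ ((pullMapIso f).app F).symm) ≪≫
      (asIso (compE f ((EtCoh.pull f).obj F))).symm
  have hfull : (aPullE U).Full := by
    have := isIso_unit Scheme.etaleTopology U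
    exact (aAdjE U).fullyFaithfulLOfIsIsoUnit.full
  obtain ⟨ψ, hψ⟩ := (aPullE U).map_surjective (e.inv ≫ η ≫ eB.hom)
  let C : AbE U := (aPullE U).obj (cokernel ψ)
  let π : B ⟶ C := eB.hom ≫ (aPullE U).map (cokernel.π ψ)
  have hηeq : η = e.hom ≫ (aPullE U).map ψ ≫ eB.inv := by
    rw [hψ]
    simp
  have hηπ : η ≫ π = 0 := by
    rw [hηeq]
    simp only [π, Category.assoc, Iso.inv_hom_id_assoc]
    rw [← CategoryTheory.Functor.map_comp, cokernel.condition, CategoryTheory.Functor.map_zero, comp_zero]
  let S : ShortComplex (AbE U) := ShortComplex.mk η π hηπ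
  have hex : S.Exact := by
    let S₀ : ShortComplex (EtCoh.Ab U) := ShortComplex.mk ψ (cokernel.π ψ) (cokernel.condition ψ)
    have h1 : S₀.Exact := ShortComplex.exact_of_g_is_cokernel _ (cokernelIsCokernel ψ)
    have h2 : (S₀.map (aPullE U)).Exact := h1.map (aPullE U)
    refine (ShortComplex.exact_iff_of_iso ?_).2 h2
    exact ShortComplex.isoMk e eB (Iso.refl _) (by
      change e.hom ≫ (aPullE U).map ψ = η ≫ eB.hom
      rw [hηeq]
      simp) (by
      change eB.hom ≫ (aPullE U).map (cokernel.π ψ) = π ≫ 𝟙 _
      rw [Category.comp_id])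
  have hsep : ∀ (T : Over U) (a : A.obj.obj (op T)), η.hom.app (op T) a = 0 → a = 0 := by
    intro T a ha
    exact sep e ((Over.mapPullbackAdj f).counit.app T) (counit_surjective f T) a ha
  have hmono : Mono η := by
    have : Mono ((sheafToPresheaf _ _).map η) := by
      rw [NatTrans.mono_iff_mono_app]
      intro T
      rw [AddCommGrpCat.mono_iff_injective, injective_iff_map_eq_zero]
      exact hsep T.unop
    exact (sheafToPresheaf _ _).mono_of_mono_map this
  -- the section of `B` over the final object
  let top : Over U := Over.mk (𝟙 U)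
  let b : B.obj.obj (op top) := A.obj.map (sndH f ((Over.pullback f).obj top)).op s
  have hb1 : B.obj.map (toTop f).op b = η.hom.app (op (Over.mk f)) s := by
    have h1 : B.obj.map (toTop f).op b =
        A.obj.map (sndH f ((Over.pullback f).obj (Over.mk f))).op s := by
      change A.obj.map ((Over.map f).map ((Over.pullback f).map (toTop f))).op (A.obj.map _ s) = _
      rw [← ConcreteCategory.comp_apply, ← A.obj.map_comp, ← op_comp, map_sndH]
    rw [h1]
    exact hs _ _ _
  have hb2 : π.hom.app (op top) b = 0 := by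
    apply sep (Iso.refl C) (toTop f) f.surjective
    have h1 := ConcreteCategory.congr_hom (π.hom.naturality (toTop f).op) b
    rw [ConcreteCategory.comp_apply, ConcreteCategory.comp_apply] at h1
    rw [← h1, hb1]
    have h2 := congrArg (fun k => k.hom.app (op (Over.mk f))) hηπ
    exact ConcreteCategory.congr_hom h2 s
  obtain ⟨a, ha⟩ := exists_of_exact S hex hmono top b hb2
  refine ⟨a, ?_⟩
  rw [← sub_eq_zero]
  apply hsep
  rw [map_sub, sub_eq_zero, ← hb1, ← ha]
  exact ConcreteCategory.congr_hom (η.hom.naturality (toTop f).op) a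

end K343.Glue
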