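import Groth.Agent.HTop.K343.Topo
import Groth.Agent.HTop.K343.Glue
import Groth.Agent.S0157

/-!
# Topologies generated by the étale topology and some proper surjective morphisms

`Gen K`: `K` is finer than the étale topology and generated by Zariski coverings and one-member proper surjective
families.  Then small étale sheaves give `K`-sheaves (`Good K`).
-/

set_option autoImplicit false
universe w u
open CategoryTheory CategoryTheory.Limits AlgebraicGeometry Opposite

noncomputable section

namespace K343.GenTop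

open Groth.Agent.Etrest Groth.Agent.Etrest.BigEtSite Groth.Agent.Etrest.BigPush K343.Basic K343.Res K343.Push
open K343.BigAdj K343.ExtVan K343.Glue K343.Topo

/-- `K` is finer than the étale topology, and generated by Zariski coverings and proper surjective morphisms. -/
class Gen (K : GrothendieckTopology Scheme.{u}) : Prop where
  le : Scheme.etaleTopology ≤ K
  le_ph : K ≤ HTop.phTopology
  gen : ∀ L : GrothendieckTopology Scheme.{u}, Scheme.zariskiTopology ≤ L →
    (∀ {V U : Scheme.{u}} (f : V ⟶ U), IsProper f → Surjective f →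
      Sieve.generate (Presieve.singleton f) ∈ K U → Sieve.generate (Presieve.singleton f) ∈ L U) → K ≤ L

theorem zariski_le_etale : Scheme.zariskiTopology.{u} ≤ Scheme.etaleTopology.{u} :=
  Scheme.zariskiTopology_le_etaleTopology

/-- Restriction of `π⁻¹ F` to the big étale site of an `S`-scheme. -/
theorem nonempty_iso_mapRes {S U : Scheme.{u}} (j : U ⟶ S) (F : EtCoh.Ab S) :
    Nonempty ((mapResE j).obj ((aPullE S).obj F) ≅ (aPullE U).obj ((EtCoh.pull j).obj F)) :=
  ⟨((pullMapIso j).app F).symm⟩

/-- `(Over.map Y.hom).obj (Over.mk (𝟙 Y.left)) ≅ Y`. -/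
def topIso {S : Scheme.{u}} (Y : Over S) : (Over.map Y.hom).obj (Over.mk (𝟙 Y.left)) ≅ Y :=
  Over.isoMk (Iso.refl _) (by
    change 𝟙 Y.left ≫ Y.hom = 𝟙 Y.left ≫ Y.hom
    rfl)

theorem le_shTop {S : Scheme.{u}} (F : EtCoh.Ab S) : HTop.phTopology ≤ shTop (tyE F) := by
  apply phTopology_le_shTop
  · intro Y R hR
    apply isSheaf_tyE F
    rw [GrothendieckTopology.mem_over_iff] at hR ⊢
    exact zariski_le_etale _ hR
  · intro Y V p hp hs x y h
    apply eq_of_jointly_surjective F
    intro z
    obtain ⟨v, hv⟩ := p.surjective z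
    exact ⟨_, hm Y p, ⟨v, hv⟩, h⟩
  · intro Y V p hp hs s hcomp
    obtain ⟨e⟩ := nonempty_iso_mapRes Y.hom F
    obtain ⟨a, ha⟩ := exists_glue p (fun G T X' t f' t' hp' => Groth.Agent.S0157.result p f' t' t hp' G)
      ((mapResE Y.hom).obj ((aPullE S).obj F)) _ e s (by
        intro T x y
        apply hcomp ((Over.map Y.hom).obj T) ((Over.map Y.hom).map x) ((Over.map Y.hom).map y)
        ext
        have h1 : x.left ≫ p = T.hom := Over.w x
        have h2 : y.left ≫ p = T.hom := Over.w y
        exact h1.trans h2.symm)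
    refine ⟨((aPullE S).obj F).obj.map (topIso Y).inv.op a, ?_⟩
    have h1 : hm Y p ≫ (topIso Y).inv = (Over.map Y.hom).map (toTop p) := by
      ext
      exact Category.comp_id _
    exact (res_res F (topIso Y).inv (hm Y p) a).trans ((congrArg (fun k => res F k a) h1).trans ha)

/-- Small étale sheaves give `K`-sheaves for every topology `K` coarser than the ph topology. -/
theorem isSheaf_of_le_ph {K : GrothendieckTopology Scheme.{u}} (hK : K ≤ HTop.phTopology) (S : Scheme.{u})
    (F : EtCoh.Ab S) : Presheaf.IsSheaf (K.over S) ((aPullE S).obj F).obj := by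
  rw [Presheaf.isSheaf_iff_isSheaf_forget (K.over S) _ (forget AddCommGrpCat.{u + 1}), 
    isSheaf_iff_isSheaf_of_type]
  exact isSheaf_of_le_shTop K _ (hK.trans (le_shTop F))

instance good_of_gen (K : GrothendieckTopology Scheme.{u}) [Gen K] : Good K where
  le := Gen.le
  isSheaf := isSheaf_of_le_ph Gen.le_ph

theorem singleton_pullback_mem (K : GrothendieckTopology Scheme.{u}) {V U T : Scheme.{u}} (f : V ⟶ U) (g : T ⟶ U)
    (h : Sieve.generate (Presieve.singleton f) ∈ K U) :
    Sieve.generate (Presieve.singleton (pullback.snd f g)) ∈ K T := by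
  refine K.superset_covering ?_ (K.pullback_stable g h)
  rintro Z k ⟨_, l, _, ⟨⟩, hl⟩
  exact ⟨_, pullback.lift l k hl, _, ⟨⟩, pullback.lift_snd _ _ _⟩

/-- Detection of separatedness. -/
theorem le_sepTop_of_gen (K : GrothendieckTopology Scheme.{u}) [Gen K] {S : Scheme.{u}} (P : (Over S)ᵒᵖ ⥤ Type w)
    (hZ : Presieve.IsSeparated (Scheme.zariskiTopology.over S) P)
    (hP : ∀ (Y : Over S) (V : Scheme.{u}) (p : V ⟶ Y.left), IsProper p → Surjective p →
      Sieve.generate (Presieve.singleton p) ∈ K Y.left →
      ∀ x y : P.obj (op Y), P.map (hm Y p).op x = P.map (hm Y p).op y → x = y) :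
    K ≤ sepTop P := by
  apply Gen.gen _ (le_sepTop_of_isSeparated _ _ hZ)
  intro V U f hf hs hK Y g x a b ha hb
  have h1 : ov Y ((Sieve.generate (Presieve.singleton f)).pullback g) (hm Y (pullback.snd f g)) := by
    rw [generate_pullback_iff]
    exact ⟨𝟙 _, Category.id_comp _⟩
  apply hP Y _ (pullback.snd f g) inferInstance inferInstance (singleton_pullback_mem K f g hK)
  rw [ha _ h1, hb _ h1]

end K343.GenTop
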