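import Groth.Agent.HTop.K343.Basic
import Groth.Agent.Etrest.BigRes

/-!
# Restriction of `K`-sheaves to small étale sites

`uResK t : AbK K X ⥤ Ab T` for `t : T ⟶ X`: left exact, preserves injectives, jointly detects
isomorphisms, epimorphisms, exactness.
-/

set_option autoImplicit false
universe w u
open CategoryTheory CategoryTheory.Limits AlgebraicGeometry Opposite

noncomputable section

namespace K343.Res

open Groth.Agent.Etrest Groth.Agent.Etrest.BigEtSite Groth.Agent.Etrest.BigPush K343.Basic

attribute [local instance] isGrothendieckAbelian_AbK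

variable (K : GrothendieckTopology Scheme.{u})

variable {X T : Scheme.{u}} (t : T ⟶ X)

instance isContinuous_slice : (Over.mk t).iteratedSliceBackward.IsContinuous (K.over T) 
    ((K.over X).over (Over.mk t)) := 
  inferInstanceAs ((Over.mk t).iteratedSliceBackward.IsContinuous (K.over (Over.mk t).left) 
    ((K.over X).over (Over.mk t)))

instance isDenseSubsite_slice : (Over.mk t).iteratedSliceBackward.IsDenseSubsite (K.over T) 
    ((K.over X).over (Over.mk t)) := 
  inferInstanceAs ((Over.mk t).iteratedSliceEquiv.inverse.IsDenseSubsite (K.over (Over.mk t).left) 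
    ((K.over X).over (Over.mk t)))

/-- Restriction to the slice. -/
abbrev sliceRes : Sheaf ((K.over X).over (Over.mk t)) AddCommGrpCat.{u + 1} ⥤ AbK K T :=
  (Over.mk t).iteratedSliceBackward.sheafPushforwardContinuous AddCommGrpCat.{u + 1} 
        (K.over T) ((K.over X).over (Over.mk t))

instance : (sliceRes K t).IsEquivalence := by
  infer_instance

/-- Restriction of `K`-sheaves along `Over.map t`. -/
abbrev mapRes : AbK K X ⥤ AbK K T :=
  (Over.map t).sheafPushforwardContinuous AddCommGrpCat.{u + 1} (K.over T) (K.over X)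

instance : (mapRes K t).Additive where

theorem mapRes_obj_eq (H : AbK K X) : (mapRes K t).obj H = (sliceRes K t).obj (H.over (Over.mk t)) := rfl

theorem injective_mapRes (I : AbK K X) [Injective I] : Injective ((mapRes K t).obj I) := by
  rw [mapRes_obj_eq]
  have := BigRes.exactDiscrete.{u}
  have h1 : Injective (I.over (Over.mk t)) := Groth.Agent.CohtopA.OverInj.injective_over _ I
  exact ((sliceRes K t).asEquivalence.map_injective_iff _).2 h1

variable [Good K]

instance : (uResK K t).Additive where

/-- `uResK` as a composite through the site of objects over `T`. -/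
theorem uResK_obj_eq [ContK K T] (H : AbK K X) : 
    (uResK K t).obj H = (aPushK K T).obj ((mapRes K t).obj H) := rfl

theorem injective_uResK (I : AbK K X) [Injective I] : Injective ((uResK K t).obj I) := by
  have : ContK K T := cont_a Good.le T
  rw [uResK_obj_eq]
  apply aPush_injective
  exact injective_mapRes K t I

theorem isLocallySurjective_of_uResK {X : Scheme.{u}} {H H' : AbK K X} (φ : H ⟶ H')
    (h : ∀ (T : Scheme.{u}) (t : T ⟶ X), Sheaf.IsLocallySurjective ((uResK K t).map φ)) : 
    Sheaf.IsLocallySurjective φ := by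
  constructor
  intro V s
  apply le_over (K := K) X
  rw [mem_JE_iff]
  intro x
  let s' := H'.obj.map (ufTop V.hom).hom.op s
  have h0 : Presheaf.IsLocallySurjective V.left.smallEtaleTopology ((uResK K V.hom).map φ).hom := h _ V.hom
  have h1 := Presheaf.imageSieve_mem V.left.smallEtaleTopology ((uResK K V.hom).map φ).hom 
    (U := op (EtCoh.top V.left)) s'
  rw [BigRes.mem_smallEtale_iff] at h1
  obtain ⟨W, g, ⟨y, hy⟩, ⟨w, hw⟩⟩ := h1 x
  refine ⟨(uf V.hom).obj W, (uf V.hom).map g ≫ (ufTop V.hom).hom, ⟨y, ?_⟩, ?_, ?_⟩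
  · refine (hy : φ.hom.app (op ((uf V.hom).obj W)) y = _).trans ?_
    change H'.obj.map ((uf V.hom).map g).op (H'.obj.map (ufTop V.hom).hom.op s) = _
    rw [← ConcreteCategory.comp_apply, ← CategoryTheory.Functor.map_comp]
    rfl
  · have : Etale g.left := inferInstance
    exact inferInstanceAs (Etale (g.left ≫ 𝟙 _))
  · exact ⟨w, hw⟩

theorem epi_of_uResK {X : Scheme.{u}} {H H' : AbK K X} (φ : H ⟶ H')
    (h : ∀ (T : Scheme.{u}) (t : T ⟶ X), Epi ((uResK K t).map φ)) : Epi φ := by
  rw [← Sheaf.isLocallySurjective_iff_epi']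
  apply isLocallySurjective_of_uResK
  intro T t
  rw [Sheaf.isLocallySurjective_iff_epi']
  exact h T t

instance : PreservesFiniteLimits (uResK K t) := by
  have h1 : PreservesFiniteLimits (uResK K t ⋙ sheafToPresheaf T.smallEtaleTopology AddCommGrpCat.{u + 1}) := 
    inferInstanceAs (PreservesFiniteLimits (sheafToPresheaf (K.over X) AddCommGrpCat.{u + 1} ⋙ 
      (Functor.whiskeringLeft _ _ AddCommGrpCat.{u + 1}).obj (uf t).op))
  exact preservesFiniteLimits_of_reflects_of_preserves (uResK K t) 
    (sheafToPresheaf T.smallEtaleTopology AddCommGrpCat.{u + 1})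

instance : PreservesFiniteLimits (mapRes K t) := by
  have h1 : PreservesFiniteLimits (mapRes K t ⋙ sheafToPresheaf (K.over T) AddCommGrpCat.{u + 1}) := 
    inferInstanceAs (PreservesFiniteLimits (sheafToPresheaf (K.over X) AddCommGrpCat.{u + 1} ⋙ 
      (Functor.whiskeringLeft _ _ AddCommGrpCat.{u + 1}).obj (Over.map t).op))
  exact preservesFiniteLimits_of_reflects_of_preserves (mapRes K t) 
    (sheafToPresheaf (K.over T) AddCommGrpCat.{u + 1})

instance : PreservesFiniteLimits (toE K X) := by
  have h1 : PreservesFiniteLimits (toE K X ⋙ sheafToPresheaf (JE X) AddCommGrpCat.{u + 1}) := 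
    inferInstanceAs (PreservesFiniteLimits (sheafToPresheaf (K.over X) AddCommGrpCat.{u + 1}))
  exact preservesFiniteLimits_of_reflects_of_preserves (toE K X) 
    (sheafToPresheaf (JE X) AddCommGrpCat.{u + 1})

theorem exact_of_uResK {X : Scheme.{u}} (S : ShortComplex (AbK K X)) 
    (h : ∀ (T : Scheme.{u}) (t : T ⟶ X), (S.map (uResK K t)).Exact) : S.Exact := by
  rw [S.exact_iff_epi_kernel_lift]
  apply epi_of_uResK
  intro T t
  exact BigRes.epi_map_kernelLift (uResK K t) S (h T t)

theorem exactAt_of_uResK {X : Scheme.{u}} (L : CochainComplex (AbK K X) ℕ) (n : ℕ)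
    (h : ∀ (T : Scheme.{u}) (t : T ⟶ X), (((uResK K t).mapHomologicalComplex (.up ℕ)).obj L).ExactAt n) : 
    L.ExactAt n := by
  exact exact_of_uResK K (L.sc n) h

end K343.Res
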