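import Groth.Agent.HTop.K343.Topo
import Groth.Agent.HTop.K346.PhBasic
import Groth.Agent.S0410
import Groth.Agent.S7473

/-!
# The étale topology is coarser than the h and ph topologies
-/

set_option autoImplicit false
universe w u
open CategoryTheory CategoryTheory.Limits AlgebraicGeometry Opposite

namespace K343.EtLe

open Groth.Agent.Etrest.BigEtSite K343.Topo HTop

variable {T : Scheme.{u}}

/-- Open coverings are ph coverings. -/
theorem isPhCover_of_isOpenImmersion (E : PreZeroHypercover.{w} T) (h1 : ∀ i, IsOpenImmersion (E.f i))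
    (h2 : ∀ x : T, ∃ i, x ∈ Set.range (E.f i)) : IsPhCover E := by
  refine ⟨fun i => inferInstance, ?_⟩
  intro U
  have hUaff : IsAffine ((U : T.Opens) : Scheme.{u}) := U.2
  have key : ∀ x : ((U : T.Opens) : Scheme.{u}), ∃ (W : ((U : T.Opens) : Scheme.{u}).Opens) (i : E.I₀), IsAffineOpen W ∧
      x ∈ W ∧ W ≤ (U : T.Opens).ι ⁻¹ᵁ (E.f i).opensRange := by
    intro x
    obtain ⟨i, hi⟩ := h2 ((U : T.Opens).ι x)
    have hx : x ∈ (U : T.Opens).ι ⁻¹ᵁ (E.f i).opensRange := hi
    obtain ⟨_, ⟨W, hW, rfl⟩, hxW, hle⟩ :=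
      ((U : T.Opens) : Scheme.{u}).isBasis_affineOpens.exists_subset_of_mem_open hx
        ((U : T.Opens).ι ⁻¹ᵁ (E.f i).opensRange).isOpen
    exact ⟨W, i, hW, hxW, hle⟩
  choose W i hW hx hle using key
  obtain ⟨t, ht⟩ := CompactSpace.elim_nhds_subcover (fun x => (W x : Set ((U : T.Opens) : Scheme.{u})))
    (fun x => (W x).isOpen.mem_nhds (hx x))
  let e := t.equivFin
  let a : Fin t.card → ((U : T.Opens) : Scheme.{u}).Opens := fun k => W (e.symm k).1
  have hstd := K346.PhBasic.isStandardPh_openPieces.{0} (𝟙 ((U : T.Opens) : Scheme.{u})) a (fun k => hW _) (by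
    intro y
    have hy : y ∈ (⊤ : Set ((U : T.Opens) : Scheme.{u})) := trivial
    rw [← ht] at hy
    simp only [Set.mem_iUnion] at hy
    obtain ⟨x, hxt, hyx⟩ := hy
    refine ⟨e ⟨x, hxt⟩, ?_⟩
    change y ∈ W (e.symm (e ⟨x, hxt⟩)).1
    rw [Equiv.symm_apply_apply]
    exact hyx)
  refine ⟨_, hstd, ?_⟩
  intro k
  have := h1 (i (e.symm k).1)
  refine ⟨i (e.symm k).1, IsOpenImmersion.lift (E.f (i (e.symm k).1)) ((a k).ι ≫ (U : T.Opens).ι) ?_, ?_⟩
  · rintro _ ⟨y, rfl⟩
    exact hle (e.symm k).1 y.2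
  · refine (IsOpenImmersion.lift_fac _ _ _).trans ?_
    change _ = ((a k).ι ≫ 𝟙 _) ≫ (U : T.Opens).ι
    rw [Category.comp_id]
    rfl

theorem zariski_le_ph : Scheme.zariskiTopology.{u} ≤ HTop.phTopology.{u} := by
  intro X S hS
  rw [mem_zariski_iff] at hS
  choose Y g h1 h2 h3 using hS
  let E : PreZeroHypercover.{u} X := { I₀ := X, X := Y, f := g }
  have hE : IsPhCover E := isPhCover_of_isOpenImmersion E h2 (fun x => ⟨x, h3 x⟩)
  have hm := Precoverage.generate_mem_toGrothendieck ((HTop.presieve₀_mem_phPrecoverage_iff E).2 hE)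
  refine HTop.phTopology.superset_covering ?_ hm
  rw [Sieve.generate_le_iff]
  rintro _ _ ⟨x⟩
  exact h1 x

/-- Open coverings are h coverings. -/
theorem isHCover_of_isOpenImmersion (E : PreZeroHypercover.{w} T) (h1 : ∀ i, IsOpenImmersion (E.f i))
    (h2 : ∀ x : T, ∃ i, x ∈ Set.range (E.f i)) : IsHCover E :=
  ⟨fun i => inferInstance, K346.PhBasic.isVCover_of_isPhCover E (isPhCover_of_isOpenImmersion E h1 h2)⟩

theorem zariski_le_h : Scheme.zariskiTopology.{u} ≤ HTop.hTopology.{u} := by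
  intro X S hS
  rw [mem_zariski_iff] at hS
  choose Y g h1 h2 h3 using hS
  let E : PreZeroHypercover.{u} X := { I₀ := X, X := Y, f := g }
  have hE : IsHCover E := isHCover_of_isOpenImmersion E h2 (fun x => ⟨x, h3 x⟩)
  have hm := Precoverage.generate_mem_toGrothendieck ((HTop.presieve₀_mem_hPrecoverage_iff E).2 hE)
  refine HTop.hTopology.superset_covering ?_ hm
  rw [Sieve.generate_le_iff]
  rintro _ _ ⟨x⟩
  exact h1 x

theorem singleton_mem_ph {V U : Scheme.{u}} (f : V ⟶ U) [IsProper f] [Surjective f] :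
    Sieve.generate (Presieve.singleton f) ∈ HTop.phTopology U := by
  have h := K346.PhBasic.isPhCover_singleton.{u} f
  have h2 := Precoverage.generate_mem_toGrothendieck ((HTop.presieve₀_mem_phPrecoverage_iff _).2 h)
  rwa [PreZeroHypercover.presieve₀_singleton] at h2

theorem singleton_mem_h {V U : Scheme.{u}} (f : V ⟶ U) [IsProper f] [Surjective f]
    [LocallyOfFinitePresentation f] :
    Sieve.generate (Presieve.singleton f) ∈ HTop.hTopology U := by
  have h := K346.PhBasic.isHCover_singleton.{u} f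
  have h2 := Precoverage.generate_mem_toGrothendieck ((HTop.presieve₀_mem_hPrecoverage_iff _).2 h)
  rwa [PreZeroHypercover.presieve₀_singleton] at h2

/-- The étale topology is generated by open coverings and finite surjective morphisms of finite presentation. -/
theorem etale_le (L : GrothendieckTopology Scheme.{u}) (hZ : Scheme.zariskiTopology ≤ L)
    (hF : ∀ {V U : Scheme.{u}} (f : V ⟶ U), IsFinite f → Surjective f → LocallyOfFinitePresentation f →
      Sieve.generate (Presieve.singleton f) ∈ L U) : Scheme.etaleTopology ≤ L := by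
  intro X S hS
  have hS' : ∀ x : X, ∃ (Y : Scheme.{u}) (g : Y ⟶ X), S g ∧ Etale g ∧ x ∈ Set.range g :=
    (mem_grothendieckTopology_iff_forall (P := @Etale)).1 hS
  apply mem_of_zariski_local L hZ
  intro x
  obtain ⟨Y, g, hg, het, ⟨y, hy⟩⟩ := hS' x
  let O : X.Opens := ⟨Set.range g, g.isOpenMap.isOpen_range⟩
  obtain ⟨_, ⟨U, hU, rfl⟩, hxU, hle⟩ :=
    X.isBasis_affineOpens.exists_subset_of_mem_open (show x ∈ (O : Set X) from ⟨y, hy⟩) O.isOpen
  have hUaff : IsAffine (U : Scheme.{u}) := hU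
  refine ⟨_, Scheme.Opens.ι U, inferInstance, by rwa [Scheme.Opens.range_ι], ?_⟩
  let g' := pullback.snd g (Scheme.Opens.ι U)
  have hsurj : Surjective g' := by
    constructor
    intro z
    obtain ⟨w, hw⟩ : Scheme.Opens.ι U z ∈ Set.range g := hle z.2
    obtain ⟨v, -, hv⟩ := Scheme.Pullback.exists_preimage_pullback w z hw
    exact ⟨v, hv⟩
  obtain ⟨W, π, h1, h2, h3, h4⟩ := Groth.Agent.S0410.result g'
  refine L.transitive (hF π h2 h1 h3) _ ?_
  rintro Z k ⟨W', l, _, ⟨⟩, rfl⟩
  rw [Sieve.pullback_comp]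
  apply L.pullback_stable
  apply hZ
  rw [mem_zariski_iff]
  intro w
  obtain ⟨V, h, hwV, hh⟩ := h4 w
  refine ⟨_, V.ι, ?_, inferInstance, by rwa [Scheme.Opens.range_ι]⟩
  change S ((V.ι ≫ π) ≫ Scheme.Opens.ι U)
  rw [← hh, Category.assoc]
  have h5 : g' ≫ Scheme.Opens.ι U = pullback.fst g (Scheme.Opens.ι U) ≫ g := pullback.condition.symm
  rw [h5, ← Category.assoc]
  exact S.downward_closed hg _

theorem etale_le_ph : Scheme.etaleTopology.{u} ≤ HTop.phTopology.{u} :=
  etale_le _ zariski_le_ph (fun f h1 h2 h3 => singleton_mem_ph f)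

theorem etale_le_h : Scheme.etaleTopology.{u} ≤ HTop.hTopology.{u} :=
  etale_le _ zariski_le_h (fun f h1 h2 h3 => singleton_mem_h f)

end K343.EtLe
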