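import Groth.Agent.HTop.K343.GenTop
import Groth.Agent.HTop.K343.EtLe

/-!
# The ph topology is good
-/

set_option autoImplicit false
universe w u
open CategoryTheory CategoryTheory.Limits AlgebraicGeometry Opposite

namespace K343.GenPh

open K343.Topo K343.GenTop K343.EtLe

instance gen_ph : Gen HTop.phTopology.{u} where
  le := etale_le_ph
  le_ph := le_rfl
  gen L hZ hP := phTopology_le L hZ (fun f h1 h2 => hP f h1 h2 (singleton_mem_ph f))

end K343.GenPh
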