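import Groth.Agent.HTop.K343.Eps
import Groth.Agent.S0001

/-!
# Proper base change, in the form used in this folder
-/

set_option autoImplicit false
universe u
open CategoryTheory CategoryTheory.Limits AlgebraicGeometry Opposite

namespace K343.Pbc

theorem pbc : K343.Main.PBC.{u} :=
  fun X Y X' Y' f g f' g' h hf F hF q =>
    have : IsProper f := hf
    (Groth.Agent.S0001.result X Y X' Y' f g f' g' h F hF).1 q

end K343.Pbc
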