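import Groth.Prelude.Def_HTop
import Groth.Agent.Etrest.BigEtDescent

/-!
# The ph topology is generated by Zariski coverings and proper surjective morphisms
-/

set_option autoImplicit false
universe w u
open CategoryTheory CategoryTheory.Limits AlgebraicGeometry Opposite

noncomputable section

namespace K343.Topo

open Groth.Agent.Etrest.BigEtSite

theorem mem_zariski_iff {X : Scheme.{u}} {S : Sieve X} :
    S ∈ Scheme.zariskiTopology X ↔ ∀ x : X, ∃ (Y : Scheme.{u}) (g : Y ⟶ X), S g ∧ IsOpenImmersion g ∧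
      x ∈ Set.range g :=
  mem_grothendieckTopology_iff_forall (P := @IsOpenImmersion)

/-- To belong to `L`, it is enough to do so on a Zariski cover. -/
theorem mem_of_zariski_local (L : GrothendieckTopology Scheme.{u}) (hZ : Scheme.zariskiTopology ≤ L)
    {X : Scheme.{u}} (S : Sieve X)
    (h : ∀ x : X, ∃ (Y : Scheme.{u}) (g : Y ⟶ X), IsOpenImmersion g ∧ x ∈ Set.range g ∧ S.pullback g ∈ L Y) :
    S ∈ L X := by
  let Z : Sieve X :=
    { arrows := fun Y g => S.pullback g ∈ L Y
      downward_closed := by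
        intro Y Y' g hg k
        have : S.pullback (k ≫ g) = (S.pullback g).pullback k := Sieve.pullback_comp _
        change S.pullback (k ≫ g) ∈ L Y'
        rw [this]
        exact L.pullback_stable k hg }
  have hZ' : Z ∈ L X := by
    apply hZ
    rw [mem_zariski_iff]
    intro x
    obtain ⟨Y, g, h1, h2, h3⟩ := h x
    exact ⟨Y, g, h3, h1, h2⟩
  exact L.transitive hZ' S (fun Y g hg => hg)

/-- `phTopology ≤ L` as soon as `L` contains Zariski coverings and proper surjective morphisms. -/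
theorem phTopology_le (L : GrothendieckTopology Scheme.{u}) (hZ : Scheme.zariskiTopology ≤ L)
    (hP : ∀ {V U : Scheme.{u}} (f : V ⟶ U), IsProper f → Surjective f →
      Sieve.generate (Presieve.singleton f) ∈ L U) : HTop.phTopology ≤ L := by
  refine Precoverage.toGrothendieck_le_iff_le_toPrecoverage.2 ?_
  intro T R hR
  obtain ⟨E, hE, rfl⟩ := PreZeroHypercoverFamily.mem_precoverage_iff.1 hR
  change Sieve.generate E.presieve₀ ∈ L T
  apply mem_of_zariski_local L hZ
  intro x
  obtain ⟨_, ⟨U, hU, rfl⟩, hx, -⟩ := T.isBasis_affineOpens.exists_subset_of_mem_open (Set.mem_univ x) isOpen_univ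
  refine ⟨_, Scheme.Opens.ι U, inferInstance, by rwa [Scheme.Opens.range_ι], ?_⟩
  obtain ⟨F, hF, href⟩ := hE.2 ⟨U, hU⟩
  obtain ⟨W, f, ι, hprop, hsurj, hopen, hcomp, hcov⟩ := hF.exists_proper
  refine L.transitive (hP f hprop hsurj) _ ?_
  rintro Y g ⟨W', k, _, ⟨⟩, rfl⟩
  rw [Sieve.pullback_comp]
  apply L.pullback_stable
  apply hZ
  rw [mem_zariski_iff]
  intro w
  obtain ⟨j, y, hy⟩ := hcov w
  refine ⟨F.X j, ι j, ?_, hopen j, ⟨y, hy⟩⟩
  obtain ⟨i, h, hh⟩ := href j
  refine ⟨E.X i, h, E.f i, ⟨i⟩, ?_⟩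
  rw [hh, ← hcomp]

section Over

variable {S : Scheme.{u}}

/-- The sieve on `Y : Over S` of all arrows whose underlying morphism is in `R`. -/
def ov (Y : Over S) (R : Sieve Y.left) : Sieve Y where
  arrows _ g := R g.left
  downward_closed := by
    intro Z Z' g hg k
    exact R.downward_closed hg k.left

theorem ov_iff (Y : Over S) (R : Sieve Y.left) {Z : Over S} (g : Z ⟶ Y) : ov Y R g ↔ R g.left := Iff.rfl

theorem ov_pullback {Y Z : Over S} (R : Sieve Y.left) (g : Z ⟶ Y) : (ov Y R).pullback g = ov Z (R.pullback g.left) := rfl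

theorem overEquiv_ov (Y : Over S) (R : Sieve Y.left) : Sieve.overEquiv Y (ov Y R) = R := by
  ext Z g
  rw [Sieve.overEquiv_iff]
  rfl

theorem ov_overEquiv (Y : Over S) (R : Sieve Y) : ov Y (Sieve.overEquiv Y R) = R := by
  apply (Sieve.overEquiv Y).injective
  rw [overEquiv_ov]

theorem ov_mem (K : GrothendieckTopology Scheme.{u}) (Y : Over S) (R : Sieve Y.left) (h : R ∈ K Y.left) :
    ov Y R ∈ K.over S Y := by
  rw [GrothendieckTopology.mem_over_iff, overEquiv_ov]
  exact h

/-- Sieves for which the presheaf `P` on `Over S` is universally separated. -/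
def sepTop (P : (Over S)ᵒᵖ ⥤ Type w) : GrothendieckTopology Scheme.{u} where
  sieves T := {R | ∀ (Y : Over S) (g : Y.left ⟶ T), Presieve.IsSeparatedFor P (ov Y (R.pullback g)).arrows}
  top_mem' T Y g := by
    rw [Sieve.pullback_top]
    exact (Presieve.isSheafFor_top P).isSeparatedFor
  pullback_stable' T T' R g hR Y g' := by
    rw [← Sieve.pullback_comp]
    exact hR Y _
  transitive' T R hR R' h Y g := by
    intro x a b ha hb
    refine (hR Y g).ext ?_
    intro Z k hk
    have h1 := h hk Z (𝟙 _)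
    rw [Sieve.pullback_id] at h1
    refine h1.ext ?_
    intro W l hl
    have hl' : (ov Y (R'.pullback g)) (l ≫ k) := by
      rw [ov_iff]
      change R' ((l ≫ k).left ≫ g)
      rw [Over.comp_left, Category.assoc]
      exact hl
    have e1 := ha (l ≫ k) hl'
    have e2 := hb (l ≫ k) hl'
    have e3 : ∀ z : P.obj (op Y), P.map l.op (P.map k.op z) = P.map (l ≫ k).op z := by
      intro z
      rw [op_comp, P.map_comp]
      rfl
    rw [e3, e3, e1, e2]

/-- Sieves for which the presheaf `P` on `Over S` is universally a sheaf. -/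
def shTop (P : (Over S)ᵒᵖ ⥤ Type w) : GrothendieckTopology Scheme.{u} where
  sieves T := {R | ∀ (Y : Over S) (g : Y.left ⟶ T), Presieve.IsSheafFor P (ov Y (R.pullback g)).arrows}
  top_mem' T Y g := by
    rw [Sieve.pullback_top]
    exact Presieve.isSheafFor_top P
  pullback_stable' T T' R g hR Y g' := by
    rw [← Sieve.pullback_comp]
    exact hR Y _
  transitive' T R hR R' h Y g := by
    have h1 : ov Y (R.pullback g) ∈ Sheaf.finestTopologySingle P Y := by
      intro Z k
      rw [ov_pullback, ← Sieve.pullback_comp]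
      exact hR Z _
    have h2 : ov Y (R'.pullback g) ∈ Sheaf.finestTopologySingle P Y := by
      refine (Sheaf.finestTopologySingle P).transitive h1 _ ?_
      intro Z k hk W l
      have h3 := h hk W l.left
      rw [ov_pullback, ov_pullback, ← Sieve.pullback_comp, ← Sieve.pullback_comp]
      rw [← Sieve.pullback_comp] at h3
      exact h3
    have h3 := h2 Y (𝟙 _)
    rwa [Sieve.pullback_id] at h3

theorem isSheaf_of_le_shTop (K : GrothendieckTopology Scheme.{u}) (P : (Over S)ᵒᵖ ⥤ Type w) (h : K ≤ shTop P) :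
    Presieve.IsSheaf (K.over S) P := by
  intro Y R hR
  rw [GrothendieckTopology.mem_over_iff] at hR
  have h1 := h _ hR Y (𝟙 _)
  rw [Sieve.pullback_id, ov_overEquiv] at h1
  exact h1

theorem isSeparated_of_le_sepTop (K : GrothendieckTopology Scheme.{u}) (P : (Over S)ᵒᵖ ⥤ Type w) (h : K ≤ sepTop P) :
    Presieve.IsSeparated (K.over S) P := by
  intro Y R hR
  rw [GrothendieckTopology.mem_over_iff] at hR
  have h1 := h _ hR Y (𝟙 _)
  rw [Sieve.pullback_id, ov_overEquiv] at h1
  exact h1

theorem le_sepTop_of_isSeparated (K : GrothendieckTopology Scheme.{u}) (P : (Over S)ᵒᵖ ⥤ Type w)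
    (h : Presieve.IsSeparated (K.over S) P) : K ≤ sepTop P := by
  intro T R hR Y g
  exact h _ (ov_mem K Y _ (K.pullback_stable g hR))

theorem le_shTop_of_isSheaf (K : GrothendieckTopology Scheme.{u}) (P : (Over S)ᵒᵖ ⥤ Type w)
    (h : Presieve.IsSheaf (K.over S) P) : K ≤ shTop P := by
  intro T R hR Y g
  exact h _ (ov_mem K Y _ (K.pullback_stable g hR))

/-- the morphism in `Over S` attached to `p : V ⟶ Y.left`. -/
abbrev hm (Y : Over S) {V : Scheme.{u}} (p : V ⟶ Y.left) : Over.mk (p ≫ Y.hom) ⟶ Y := Over.homMk p rfl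

theorem generate_pullback_iff (Y : Over S) {V U : Scheme.{u}} (f : V ⟶ U) (g : Y.left ⟶ U) {Z : Over S} (k : Z ⟶ Y) :
    ov Y ((Sieve.generate (Presieve.singleton f)).pullback g) k ↔
      ∃ l : Z ⟶ Over.mk (pullback.snd f g ≫ Y.hom), l ≫ hm Y (pullback.snd f g) = k := by
  rw [ov_iff]
  constructor
  · rintro ⟨_, h, _, ⟨⟩, hh⟩
    refine ⟨Over.homMk (pullback.lift h k.left hh) ?_, ?_⟩
    · exact (pullback.lift_snd_assoc _ _ _ _).trans (Over.w k)
    · ext
      exact pullback.lift_snd _ _ _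
  · rintro ⟨l, rfl⟩
    refine ⟨V, l.left ≫ pullback.fst f g, f, ⟨⟩, ?_⟩
    rw [Category.assoc, pullback.condition]
    rfl

/-- Separatedness for the ph topology. -/
theorem phTopology_le_sepTop (P : (Over S)ᵒᵖ ⥤ Type w)
    (hZ : Presieve.IsSeparated (Scheme.zariskiTopology.over S) P)
    (hP : ∀ (Y : Over S) (V : Scheme.{u}) (p : V ⟶ Y.left), IsProper p → Surjective p →
      ∀ x y : P.obj (op Y), P.map (hm Y p).op x = P.map (hm Y p).op y → x = y) :
    HTop.phTopology ≤ sepTop P := by
  apply phTopology_le _ (le_sepTop_of_isSeparated _ _ hZ)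
  intro V U f hf hs Y g x a b ha hb
  have h1 : ov Y ((Sieve.generate (Presieve.singleton f)).pullback g) (hm Y (pullback.snd f g)) := by
    rw [generate_pullback_iff]
    exact ⟨𝟙 _, Category.id_comp _⟩
  apply hP Y _ (pullback.snd f g) inferInstance inferInstance
  rw [ha _ h1, hb _ h1]

/-- Sheaf criterion for the ph topology over `S`. -/
theorem phTopology_le_shTop (P : (Over S)ᵒᵖ ⥤ Type w)
    (hZ : Presieve.IsSheaf (Scheme.zariskiTopology.over S) P)
    (hP : ∀ (Y : Over S) (V : Scheme.{u}) (p : V ⟶ Y.left), IsProper p → Surjective p →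
      ∀ x y : P.obj (op Y), P.map (hm Y p).op x = P.map (hm Y p).op y → x = y)
    (hG : ∀ (Y : Over S) (V : Scheme.{u}) (p : V ⟶ Y.left), IsProper p → Surjective p →
      ∀ s : P.obj (op (Over.mk (p ≫ Y.hom))),
        (∀ (W : Over S) (k₁ k₂ : W ⟶ Over.mk (p ≫ Y.hom)), k₁ ≫ hm Y p = k₂ ≫ hm Y p →
          P.map k₁.op s = P.map k₂.op s) → ∃ a : P.obj (op Y), P.map (hm Y p).op a = s) :
    HTop.phTopology ≤ shTop P := by
  apply phTopology_le _ (le_shTop_of_isSheaf _ _ hZ)
  intro V U f hf hs Y g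
  let p := pullback.snd f g
  have hp : IsProper p := inferInstance
  have hs' : Surjective p := inferInstance
  have h0 : ∀ {Z : Over S} (l : Z ⟶ Over.mk (p ≫ Y.hom)),
      ov Y ((Sieve.generate (Presieve.singleton f)).pullback g) (l ≫ hm Y p) := by
    intro Z l
    rw [generate_pullback_iff]
    exact ⟨l, rfl⟩
  have h1 : ov Y ((Sieve.generate (Presieve.singleton f)).pullback g) (hm Y p) := by
    rw [generate_pullback_iff]
    exact ⟨𝟙 _, Category.id_comp _⟩
  intro x hx
  have hx1 : ∀ {Z : Over S} (l : Z ⟶ Over.mk (p ≫ Y.hom)) (k : Z ⟶ Y) (hk), l ≫ hm Y p = k →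
      P.map l.op (x (hm Y p) h1) = x k hk := by
    intro Z l k hk e
    have := hx l (𝟙 Z) h1 hk (by rw [e, Category.id_comp])
    rw [this, op_id, P.map_id]
    rfl
  obtain ⟨a, ha⟩ := hG Y _ p hp hs' (x (hm Y p) h1) (by
    intro W k₁ k₂ e
    rw [hx1 k₁ _ (h0 k₁) rfl, hx1 k₂ _ (h0 k₁) e.symm])
  refine ⟨a, ?_, ?_⟩
  · intro Z k hk
    obtain ⟨l, hl⟩ := (generate_pullback_iff Y f g k).1 hk
    rw [← hx1 l k hk hl, ← ha]
    have e3 : P.map l.op (P.map (hm Y p).op a) = P.map (l ≫ hm Y p).op a := by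
      rw [op_comp, P.map_comp]
      rfl
    rw [e3]
    exact congrArg (fun z => P.map (Quiver.Hom.op z) a) hl.symm
  · intro b hb
    apply hP Y _ p hp hs'
    rw [hb _ h1, ha]

end Over

end K343.Topo
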