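import Groth.Agent.HTop.K343.Van

/-!
# The comparison theorems for a topology `K` with `Gen K`

Everything is stated under the hypothesis `PBC` (proper base change for torsion sheaves, `S0001`).
-/

set_option autoImplicit false
universe w u
open CategoryTheory CategoryTheory.Limits AlgebraicGeometry Opposite
open CategoryTheory.Abelian (Ext)

noncomputable section

namespace K343.Main

open Groth.Agent.Etrest Groth.Agent.Etrest.BigEtSite Groth.Agent.Etrest.BigPush K343.Basic K343.Res K343.Push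
open K343.BigAdj K343.ExtVan K343.Glue K343.Topo K343.GenTop K343.Van

attribute [local instance] isGrothendieckAbelian_AbK

/-- Proper base change for torsion sheaves (a theorem: `Groth.Agent.S0001.result`). -/
def PBC : Prop := ∀ (X Y X' Y' : Scheme.{u}) (f : X ⟶ Y) (g : Y' ⟶ Y) (f' : X' ⟶ Y') (g' : X' ⟶ X)
  (_ : IsPullback g' f' f g) (_ : IsProper f) (F : EtCoh.Ab X) (_ : EtCoh.IsTorsion F) (q : ℕ),
  Nonempty ((EtCoh.pull g).obj ((EtCoh.Rpush f q).obj F) ≅ (EtCoh.Rpush f' q).obj ((EtCoh.pull g').obj F))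

variable (hPBC : PBC.{u})

variable (K : GrothendieckTopology Scheme.{u}) [Gen K]

include hPBC in
theorem cls_of_torsion (X : Scheme.{u}) [ContK K X] (F : EtCoh.Ab X) (hF : EtCoh.IsTorsion F) :
    Cls K ((aPullK K X).obj F) := by
  intro U j V f hf hs hK n
  let e : (aPullE U).obj ((EtCoh.pull j).obj F) ≅ (mapResE j).obj ((toE K X).obj ((aPullK K X).obj F)) :=
    (pullMapIso j).app F ≪≫ (mapResE j).mapIso ((aPullIsoE K X).app F).symm
  refine ext_of_iso _ e.hom n ?_
  exact ext_eq_zero f (fun G T X' t f' t' hp' => Groth.Agent.S0157.result f f' t' t hp' G)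
    (fun G hG T X' t f' t' hp' q => hPBC _ _ _ _ f t f' t' hp' hf G hG q) n _
    (Groth.Agent.Etcore.Torsion.isTorsion_pull j F hF)

include hPBC in
/-- `R^q ε_* (a⁻¹ F) = 0`. -/
theorem isZero_rightDerived_toE (X : Scheme.{u}) [ContK K X] (F : EtCoh.Ab X) (hF : EtCoh.IsTorsion F)
    (q : ℕ) (hq : 0 < q) : IsZero (((toE K X).rightDerived q).obj ((aPullK K X).obj F)) :=
  RAcyc.isZero_rightDerived_of_class (toE K X) (Cls K) (fun S hS hI hG => step K S hS hI hG)
    (cls_of_torsion hPBC K X F hF) q hq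

include hPBC in
/-- `R^q (-|_T) (a⁻¹ F) = 0`. -/
theorem isZero_rightDerived_uResK {X T : Scheme.{u}} (t : T ⟶ X) [ContK K X] (F : EtCoh.Ab X)
    (hF : EtCoh.IsTorsion F) (q : ℕ) (hq : 0 < q) :
    IsZero (((uResK K t).rightDerived q).obj ((aPullK K X).obj F)) := by
  refine RAcyc.isZero_rightDerived_of_class (uResK K t) (Cls K) (fun S hS hI hG => ?_)
    (cls_of_torsion hPBC K X F hF) q hq
  obtain ⟨h1, h2⟩ := step K S hS hI hG
  exact ⟨h1, epi_uRes t ((toE K X).map S.g)⟩

include hPBC in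
/-- `R^q a_* (a⁻¹ F) = 0`. -/
theorem isZero_rightDerived_aPushK (X : Scheme.{u}) [ContK K X] (F : EtCoh.Ab X)
    (hF : EtCoh.IsTorsion F) (q : ℕ) (hq : 0 < q) :
    IsZero (((aPushK K X).rightDerived q).obj ((aPullK K X).obj F)) := by
  have : PreservesFiniteLimits (aPushK K X) := by
    have h1 : PreservesFiniteLimits (aPushK K X ⋙ sheafToPresheaf X.smallEtaleTopology AddCommGrpCat.{u + 1}) := 
      inferInstanceAs (PreservesFiniteLimits (sheafToPresheaf (K.over X) AddCommGrpCat.{u + 1} ⋙ 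
        (Functor.whiskeringLeft _ _ AddCommGrpCat.{u + 1}).obj (EtFppf.a X).op))
    exact preservesFiniteLimits_of_reflects_of_preserves (aPushK K X) 
      (sheafToPresheaf X.smallEtaleTopology AddCommGrpCat.{u + 1})
  refine RAcyc.isZero_rightDerived_of_class (aPushK K X) (Cls K) (fun S hS hI hG => ?_)
    (cls_of_torsion hPBC K X F hF) q hq
  obtain ⟨h1, h2⟩ := step K S hS hI hG
  refine ⟨h1, ?_⟩
  have h3 := epi_uRes (𝟙 X) ((toE K X).map S.g)
  have h4 : Epi ((uResK K (𝟙 X)).map S.g) := h3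
  have h5 := (uResKId K X).hom.naturality S.g
  have h6 : (aPushK K X).map S.g = (uResKId K X).inv.app _ ≫ (uResK K (𝟙 X)).map S.g ≫ (uResKId K X).hom.app _ := by
    rw [h5, Iso.inv_hom_id_app_assoc]
  rw [h6]
  infer_instance

include hPBC in
/-- Comparison of higher direct images. -/
theorem nonempty_Rpush {X Y : Scheme.{u}} (f : X ⟶ Y) [IsProper f] [ContK K X] [ContK K Y] (F : EtCoh.Ab X)
    (hF : EtCoh.IsTorsion F) (i : ℕ) : 
    Nonempty ((aPullK K Y).obj ((EtCoh.Rpush f i).obj F) ≅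
      ((pushBigK K f).rightDerived i).obj ((aPullK K X).obj F)) :=
  nonempty_iso_of_torsion K f (fun G hG T t q hq => isZero_rightDerived_uResK hPBC K t G hG q hq)
    (fun G T X' t f' t' hp' => Groth.Agent.S0157.result f f' t' t hp' G)
    (fun G hG T X' t f' t' hp' q => hPBC _ _ _ _ f t f' t' hp' inferInstance G hG q) F hF i

theorem nonempty_push {X Y : Scheme.{u}} (f : X ⟶ Y) [IsProper f] [ContK K X] [ContK K Y] (F : EtCoh.Ab X) :
    Nonempty ((aPullK K Y).obj ((EtCoh.push f).obj F) ≅ (pushBigK K f).obj ((aPullK K X).obj F)) := by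
  have := Basic.isIso_compF K f F (fun T X' t f' t' hp => Groth.Agent.S0157.result f f' t' t hp F)
  exact ⟨asIso (Basic.compF K f F)⟩

include hPBC in
/-- Comparison of cohomology. -/
theorem nonempty_H (X : Scheme.{u}) [ContK K X] (F : EtCoh.Ab X) (hF : EtCoh.IsTorsion F) (q : ℕ) :
    Nonempty (EtCoh.H X F q ≃+ Sheaf.H ((aPullK K X).obj F) q) := by
  have hu := isIso_unit_app K X F
  have hR := isZero_rightDerived_aPushK hPBC K X F hF
  have : PreservesFiniteLimits (aPushK K X) := by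
    have h1 : PreservesFiniteLimits (aPushK K X ⋙ sheafToPresheaf X.smallEtaleTopology AddCommGrpCat.{u + 1}) := 
      inferInstanceAs (PreservesFiniteLimits (sheafToPresheaf (K.over X) AddCommGrpCat.{u + 1} ⋙ 
        (Functor.whiskeringLeft _ _ AddCommGrpCat.{u + 1}).obj (EtFppf.a X).op))
    exact preservesFiniteLimits_of_reflects_of_preserves (aPushK K X) 
      (sheafToPresheaf X.smallEtaleTopology AddCommGrpCat.{u + 1})
  obtain ⟨e⟩ := Groth.Agent.Etrest.RAcyc.nonempty_extAddEquiv (aAdjK K X)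
    (aPush_injective K X) (G := (aPullK K X).obj F) hR
    ((constantSheaf X.smallEtaleTopology AddCommGrpCat.{u + 1}).obj (AddCommGrpCat.of (ULift ℤ))) q
  have e1 : EtCoh.H X F q ≃+ EtCoh.H X ((aPushK K X).obj ((aPullK K X).obj F)) q :=
    ((Abelian.extFunctorObj _ q).mapIso (@asIso _ _ _ _ _ hu)).addCommGroupIsoToAddEquiv
  have e2 : Abelian.Ext ((aPullK K X).obj ((constantSheaf X.smallEtaleTopology AddCommGrpCat.{u + 1}).obj
      (AddCommGrpCat.of (ULift ℤ)))) ((aPullK K X).obj F) q ≃+ Sheaf.H ((aPullK K X).obj F) q :=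
    (((Abelian.extFunctor q).mapIso
      (constIso K X (AddCommGrpCat.of (ULift ℤ))).symm.op).app
        ((aPullK K X).obj F)).addCommGroupIsoToAddEquiv
  exact ⟨e1.trans (e.trans e2)⟩

end K343.Main
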