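import Groth.Agent.Etrest.BigPush2
import Groth.Agent.Etrest.FppfExact
import Groth.Agent.Etrest.FppfUnit

/-!
# Big sites of schemes for a topology `K` finer than the étale topology

`K` is a Grothendieck topology on `Scheme` finer than the étale topology, such that the inverse image to the big
étale site of any small étale sheaf is already a `K`-sheaf (class `Good K`).  We transport the comparison of the
small étale site with the big fppf site (`Etrest.BigFppf`) to the big `K`-site.
-/

set_option autoImplicit false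
universe w u
open CategoryTheory CategoryTheory.Limits AlgebraicGeometry Opposite

noncomputable section

namespace K343.Basic

open Groth.Agent.Etrest Groth.Agent.Etrest.BigEtSite

/-- Abelian sheaves for the topology `K` on schemes over `S`. -/
abbrev AbK (K : GrothendieckTopology Scheme.{u}) (S : Scheme.{u}) : Type (u + 2) :=
  Sheaf (K.over S) AddCommGrpCat.{u + 1}

theorem isGrothendieckAbelian_AbK (K : GrothendieckTopology Scheme.{u}) (S : Scheme.{u}) :
    IsGrothendieckAbelian.{u + 1} (AbK K S) := by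
  have : EssentiallySmall.{u + 1} (Over S) := inferInstance
  exact Sheaf.isGrothendieckAbelian_of_essentiallySmall _ _

attribute [local instance] isGrothendieckAbelian_AbK

/-- `K` is finer than the étale topology and small étale sheaves give `K`-sheaves. -/
class Good (K : GrothendieckTopology Scheme.{u}) : Prop where
  le : Scheme.etaleTopology ≤ K
  isSheaf : ∀ (S : Scheme.{u}) (F : EtCoh.Ab S), Presheaf.IsSheaf (K.over S) ((aPullE S).obj F).obj

instance good_etale : Good Scheme.etaleTopology.{u} where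
  le := le_rfl
  isSheaf S F := ((aPullE S).obj F).property

theorem JE_le {K : GrothendieckTopology Scheme.{u}} (hK : Scheme.etaleTopology ≤ K) (X : Scheme.{u}) :
    JE X ≤ K.over X := by
  intro U S hS
  rw [GrothendieckTopology.mem_over_iff] at hS ⊢
  exact hK _ hS

/-- Continuity of the identity. -/
theorem cont_eps {K : GrothendieckTopology Scheme.{u}} (hK : Scheme.etaleTopology ≤ K) (X : Scheme.{u}) :
    (𝟭 (Over X)).IsContinuous (JE X) (K.over X) where
  op_comp_isSheaf_of_types G :=
    Presieve.isSheaf_of_le _ (JE_le hK X) ((isSheaf_iff_isSheaf_of_type _ _).1 G.2)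

theorem cont_a {K : GrothendieckTopology Scheme.{u}} (hK : Scheme.etaleTopology ≤ K) (X : Scheme.{u}) :
    (EtFppf.a X).IsContinuous X.smallEtaleTopology (K.over X) := by
  have := cont_eps hK X
  exact Functor.isContinuous_comp (EtFppf.a X) (𝟭 _) _ (JE X) _

variable (K : GrothendieckTopology Scheme.{u})

/-- Continuity of `EtFppf.a X`, as a binder. -/
abbrev ContK (X : Scheme.{u}) : Prop := (EtFppf.a X).IsContinuous X.smallEtaleTopology (K.over X)

/-- `a⁻¹`. -/
abbrev aPullK (X : Scheme.{u}) [ContK K X] : EtCoh.Ab X ⥤ AbK K X :=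
  (EtFppf.a X).sheafPullback AddCommGrpCat.{u + 1} X.smallEtaleTopology (K.over X)

/-- `a_*`. -/
abbrev aPushK (X : Scheme.{u}) [ContK K X] : AbK K X ⥤ EtCoh.Ab X :=
  (EtFppf.a X).sheafPushforwardContinuous AddCommGrpCat.{u + 1} X.smallEtaleTopology (K.over X)

/-- The adjunction `a⁻¹ ⊣ a_*`. -/
abbrev aAdjK (X : Scheme.{u}) [ContK K X] : aPullK K X ⊣ aPushK K X :=
  (EtFppf.a X).sheafAdjunctionContinuous AddCommGrpCat.{u + 1} X.smallEtaleTopology (K.over X)

/-- Direct image on big `K`-sites. -/
abbrev pushBigK {X Y : Scheme.{u}} (f : X ⟶ Y) : AbK K X ⥤ AbK K Y :=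
  (Over.pullback f).sheafPushforwardContinuous AddCommGrpCat.{u + 1} (K.over Y) (K.over X)

instance {X Y : Scheme.{u}} (f : X ⟶ Y) : (pushBigK K f).Additive where

variable [Good K]

variable {K} in
omit [Good K] in
theorem le_over [Good K] (S : Scheme.{u}) : JE S ≤ K.over S := JE_le Good.le S

/-- `K`-sheaves are étale sheaves. -/
def toE (S : Scheme.{u}) : AbK K S ⥤ AbE S where
  obj H := ⟨H.obj, fun E => Presieve.isSheaf_of_le _ (le_over S) (H.property E)⟩
  map φ := ⟨φ.hom⟩

/-- `toE` is fully faithful. -/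
def toEFullyFaithful (S : Scheme.{u}) : (toE K S).FullyFaithful where
  preimage φ := ⟨φ.hom⟩

instance (S : Scheme.{u}) : (toE K S).Full := (toEFullyFaithful K S).full
instance (S : Scheme.{u}) : (toE K S).Faithful := (toEFullyFaithful K S).faithful
instance (S : Scheme.{u}) : (toE K S).Additive where

/-- The explicit inverse image. -/
def aPullF (S : Scheme.{u}) : EtCoh.Ab S ⥤ AbK K S where
  obj F := ⟨((aPullE S).obj F).obj, Good.isSheaf S F⟩
  map φ := ⟨((aPullE S).map φ).hom⟩
  map_id F := by
    apply (toE K S).map_injective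
    exact (aPullE S).map_id F
  map_comp φ ψ := by
    apply (toE K S).map_injective
    exact (aPullE S).map_comp φ ψ

/-- underlying étale sheaf. -/
def aPullFCompToE (S : Scheme.{u}) : aPullE S ≅ aPullF K S ⋙ toE K S :=
  NatIso.ofComponents (fun _ => Iso.refl _) (fun φ => by
    simp only [Iso.refl_hom]
    rfl)

/-- The adjunction. -/
def aAdjF (S : Scheme.{u}) [ContK K S] : aPullF K S ⊣ aPushK K S :=
  (aAdjE S).restrictFullyFaithful (Functor.FullyFaithful.id _) (toEFullyFaithful K S)
    ((Functor.leftUnitor _).trans (aPullFCompToE K S)) 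
    (NatIso.ofComponents (fun _ => Iso.refl _) (fun φ => by
      simp only [Iso.refl_hom]
      rfl))

/-- `aPull` is isomorphic to the explicit model. -/
def aPullIso (S : Scheme.{u}) [ContK K S] : aPullK K S ≅ aPullF K S :=
  (aAdjK K S).leftAdjointUniq (aAdjF K S)

/-- The composite to the big étale site. -/
def aPullIsoE (S : Scheme.{u}) [ContK K S] : aPullK K S ⋙ toE K S ≅ aPullE S :=
  (Functor.isoWhiskerRight (aPullIso K S) (toE K S)).trans (aPullFCompToE K S).symm

/-- Restriction of `K`-sheaves to the small étale site of `T`, `f : T ⟶ S`. -/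
abbrev uResK {T S : Scheme.{u}} (f : T ⟶ S) : AbK K S ⥤ EtCoh.Ab T := toE K S ⋙ uRes f

/-- `f⁻¹ F` is the restriction of `a⁻¹ F` to the small étale site of `T`. -/
def pullIsoK {T S : Scheme.{u}} (f : T ⟶ S) [ContK K S] : 
    aPullK K S ⋙ uResK K f ≅ EtCoh.pull f :=
  (Functor.associator _ _ _).symm.trans ((Functor.isoWhiskerRight (aPullIsoE K S) (uRes f)).trans (pullIso f).symm)

/-- Sections of `a⁻¹ F`. -/
theorem nonempty_sections_iso (S : Scheme.{u}) [ContK K S] (F : EtCoh.Ab S)
    {T : Scheme.{u}} (f : T ⟶ S) :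
    Nonempty (((aPullK K S).obj F).obj.obj (op (Over.mk f)) ≅
      ((EtCoh.pull f).obj F).obj.obj (op (EtCoh.top T))) := by
  let e : (Groth.Agent.Etrest.BigEtSite.uf f).obj (EtCoh.top T) ≅ Over.mk f := 
    Over.isoMk (Iso.refl _) (by
      change 𝟙 T ≫ f = 𝟙 T ≫ f
      rfl)
  refine ⟨(((aPullK K S).obj F).obj.mapIso e.op).trans ?_⟩
  exact ((sheafToPresheaf _ _).mapIso ((pullIsoK K f).app F)).app (op (EtCoh.top T))

/-! ### Unit -/

open FppfUnit in
/-- Restriction along the identity. -/
def uResKId (X : Scheme.{u}) [ContK K X] : uResK K (𝟙 X) ≅ aPushK K X :=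
  (Functor.isoWhiskerLeft (toE K X) (uResId X)).trans
    (NatIso.ofComponents (fun _ => Iso.refl _) (fun φ => by
      simp only [Iso.refl_hom]
      rfl))

open FppfUnit in
/-- `a_* a⁻¹ ≅ 𝟭`. -/
def aPullPushIso (X : Scheme.{u}) [ContK K X] : aPullK K X ⋙ aPushK K X ≅ 𝟭 (EtCoh.Ab X) :=
  (Functor.isoWhiskerLeft (aPullK K X) (uResKId K X)).symm.trans ((pullIsoK K (𝟙 X)).trans (pullId X))

theorem isIso_unit (X : Scheme.{u}) [ContK K X] : IsIso (aAdjK K X).unit :=
  (aAdjK K X).isIso_unit_of_iso (aPullPushIso K X)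

theorem isIso_unit_app (X : Scheme.{u}) [ContK K X] (F : EtCoh.Ab X) : IsIso ((aAdjK K X).unit.app F) := by
  have := isIso_unit K X
  infer_instance

/-! ### Exactness of `a⁻¹` -/

section Exact

omit [Good K]

open FppfExact in
theorem aPull_preservesFiniteLimits (X : Scheme.{u}) [ContK K X] : PreservesFiniteLimits (aPullK K X) := by
  have hfl : ∀ K : (Over X)ᵒᵖ, IsFiltered (CostructuredArrow (EtFppf.a X).op K) := fun K =>
    IsFiltered.of_equivalence (structuredArrowOpEquivalence (EtFppf.a X) (unop K))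
  have : ∀ K : (Over X)ᵒᵖ, HasColimitsOfShape (CostructuredArrow (EtFppf.a X).op K)
      AddCommGrpCat.{u + 1} := fun K => inferInstance
  have : PreservesFiniteLimits ((EtFppf.a X).op.lan :
      (_ ⥤ AddCommGrpCat.{u + 1}) ⥤ (Over X)ᵒᵖ ⥤ AddCommGrpCat.{u + 1}) :=
    Groth.Agent.Etbase.LanFlat.preservesFiniteLimits_op_lan _ _ (fun K => by
      have := hfl K
      have : HasFilteredColimitsOfSize.{u, u + 1} AddCommGrpCat.{u + 1} :=
        hasFilteredColimitsOfSize_shrink.{u, u + 1, u + 1, u + 1}
      have : AB5OfSize.{u, u + 1} AddCommGrpCat.{u + 1} := AB5OfSize_shrink.{u, u + 1, u + 1, u + 1} _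
      exact HasExactColimitsOfShape.preservesFiniteLimits)
  exact Functor.sheafPullbackConstruction.preservesFiniteLimits _ _ _ _

theorem aPush_injective (X : Scheme.{u}) [ContK K X] (I : AbK K X) (hI : Injective I) :
    Injective ((aPushK K X).obj I) := by
  have := aPull_preservesFiniteLimits K X
  exact Injective.injective_of_adjoint (aAdjK K X) I

open FppfExact in
noncomputable def constIso (X : Scheme.{u}) [ContK K X] (M : AddCommGrpCat.{u + 1}) :
    (aPullK K X).obj ((constantSheaf X.smallEtaleTopology AddCommGrpCat.{u + 1}).obj M) ≅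
      (constantSheaf (K.over X) AddCommGrpCat.{u + 1}).obj M :=
  (Adjunction.leftAdjointUniq
    ((constantSheafAdj X.smallEtaleTopology AddCommGrpCat.{u + 1} (isTerminalTop X)).comp (aAdjK K X))
    (constantSheafAdj (K.over X) AddCommGrpCat.{u + 1} (Over.mkIdTerminal : IsTerminal (Over.mk (𝟙 X))))).app M

end Exact

/-! ### Direct images -/

section Push

open BigPush

variable {X Y : Scheme.{u}} (f : X ⟶ Y)

/-- direct image commutes with the inclusion of `K`-sheaves. -/
theorem toE_pushBig (H : AbK K X) : (toE K Y).obj ((pushBigK K f).obj H) = (pushBigE f).obj ((toE K X).obj H) := rfl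

/-- The comparison on big `K`-sites. -/
def compF [ContK K X] [ContK K Y] (F : EtCoh.Ab X) :
    (aPullK K Y).obj ((EtCoh.push f).obj F) ⟶ (pushBigK K f).obj ((aPullK K X).obj F) :=
  (toEFullyFaithful K Y).preimage 
    ((aPullIsoE K Y).hom.app ((EtCoh.push f).obj F) ≫ compE f F ≫ (pushBigE f).map ((aPullIsoE K X).inv.app F))

theorem isIso_compF [ContK K X] [ContK K Y] (F : EtCoh.Ab X) 
    (h : ∀ (T X' : Scheme.{u}) (t : T ⟶ Y) (f' : X' ⟶ T) (t' : X' ⟶ X) (hp : IsPullback t' f' f t), 
      IsIso (EtCoh.baseChange0 f t f' t' hp.w F)) : IsIso (compF K f F) := by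
  have := isIso_compE f F h
  have h2 : IsIso ((toE K Y).map (compF K f F)) := by
    rw [compF, (toEFullyFaithful K Y).map_preimage]
    have i1 : IsIso ((aPullIsoE K Y).hom.app ((EtCoh.push f).obj F)) := inferInstance
    have i2 : IsIso ((pushBigE f).map ((aPullIsoE K X).inv.app F)) := inferInstance
    exact IsIso.comp_isIso' i1 (IsIso.comp_isIso' this i2)
  exact isIso_of_reflects_iso _ (toE K Y)

end Push

end K343.Basic
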