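import Groth.Agent.Etbase.FreeSheaf

/-!
# The object `Q p` of abelian sheaves attached to an arrow `p : V ⟶ U` of a site

`Q p = coker (Z[V] ⟶ Z[U])` so that `Hom (Q p, F) = ker (F(U) ⟶ F(V))`.
-/

set_option autoImplicit false
universe w v u
open CategoryTheory CategoryTheory.Limits Opposite

noncomputable section

namespace K343.QObj

open Groth.Agent.Etbase.FreeSheaf

variable {C : Type u} [Category.{v} C] (J : GrothendieckTopology C)

/-- the representable presheaf with values in a bigger universe -/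
abbrev yo (T : C) : Cᵒᵖ ⥤ Type (max v w) := yoneda.obj T ⋙ uliftFunctor.{w, v}

/-- `yo T` is represented by `T` -/
def repr (T : C) : (yo.{w} T).RepresentableBy T where
  homEquiv := Equiv.ulift.symm
  homEquiv_comp _ _ := rfl

/-- functoriality of `yo`. -/
abbrev yoMap {V U : C} (p : V ⟶ U) : yo.{w} V ⟶ yo.{w} U :=
  Functor.whiskerRight (yoneda.map p) uliftFunctor.{w, v}

variable [HasSheafify J AddCommGrpCat.{max v w}]

/-- `Z[V] ⟶ Z[U]`. -/
abbrev zMap {V U : C} (p : V ⟶ U) : Z J (yo.{w} V) ⟶ Z J (yo.{w} U) := Zmap (yoMap.{w} p)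

variable {J}

theorem ev_zMap {V U : C} (p : V ⟶ U) {F : Sheaf J AddCommGrpCat.{max v w}} (φ : Z J (yo.{w} U) ⟶ F) :
    ev (repr.{w} V) F (zMap.{w} J p ≫ φ) = F.obj.map p.op (ev (repr.{w} U) F φ) := by
  refine (ev_Zmap (repr.{w} V) (repr.{w} U) (yoMap.{w} p) φ).trans ?_
  have : (repr.{w} U).homEquiv.symm ((yoMap.{w} p).app (op V) ((repr.{w} V).homEquiv (𝟙 V))) = p := by
    change 𝟙 V ≫ p = p
    simp
  rw [this]

variable (J)

/-- `Q p = coker (Z[V] ⟶ Z[U])`. -/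
def Q {V U : C} (p : V ⟶ U) : Sheaf J AddCommGrpCat.{max v w} := cokernel (zMap.{w} J p)

variable {J}

/-- the projection. -/
def qπ {V U : C} (p : V ⟶ U) : Z J (yo.{w} U) ⟶ Q.{w} J p := cokernel.π (zMap.{w} J p)

instance epi_qπ {V U : C} (p : V ⟶ U) : Epi (qπ.{w} (J := J) p) :=
  inferInstanceAs (Epi (cokernel.π (zMap.{w} J p)))

theorem zMap_qπ {V U : C} (p : V ⟶ U) : zMap.{w} J p ≫ qπ.{w} p = 0 := cokernel.condition _

/-- descent. -/
def qDesc {V U : C} (p : V ⟶ U) {F : Sheaf J AddCommGrpCat.{max v w}} (φ : Z J (yo.{w} U) ⟶ F)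
    (h : zMap.{w} J p ≫ φ = 0) : Q.{w} J p ⟶ F := cokernel.desc (zMap.{w} J p) φ h

theorem qπ_qDesc {V U : C} (p : V ⟶ U) {F : Sheaf J AddCommGrpCat.{max v w}} (φ : Z J (yo.{w} U) ⟶ F)
    (h : zMap.{w} J p ≫ φ = 0) : qπ.{w} p ≫ qDesc.{w} p φ h = φ := cokernel.π_desc _ _ _

theorem eq_zero_of_inj {V U : C} (p : V ⟶ U) (F : Sheaf J AddCommGrpCat.{max v w})
    (h : ∀ s : F.obj.obj (op U), F.obj.map p.op s = 0 → s = 0) (φ : Q.{w} J p ⟶ F) : φ = 0 := by
  rw [← cancel_epi (qπ.{w} p), comp_zero]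
  apply (ev (repr.{w} U) F).injective
  rw [map_zero]
  apply h
  rw [← ev_zMap, ← Category.assoc, zMap_qπ, zero_comp, map_zero]

theorem inj_of_eq_zero {V U : C} (p : V ⟶ U) (F : Sheaf J AddCommGrpCat.{max v w})
    (h : ∀ φ : Q.{w} J p ⟶ F, φ = 0) (s : F.obj.obj (op U)) (hs : F.obj.map p.op s = 0) : s = 0 := by
  let φ : Z J (yo.{w} U) ⟶ F := (ev (repr.{w} U) F).symm s
  have hφ : zMap.{w} J p ≫ φ = 0 := by
    apply (ev (repr.{w} V) F).injective
    rw [ev_zMap, map_zero, AddEquiv.apply_symm_apply, hs]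
  have h2 : φ = 0 := by
    have h3 := qπ_qDesc p φ hφ
    rw [h (qDesc p φ hφ), comp_zero] at h3
    exact h3.symm
  rw [← (ev (repr.{w} U) F).apply_symm_apply s]
  change ev (repr.{w} U) F φ = 0
  rw [h2, map_zero]

/-- If the restriction `F(U) ⟶ F(V)` is injective for every `F` then `Q p = 0`. -/
theorem isZero_of_forall {V U : C} (p : V ⟶ U)
    (h : ∀ (F : Sheaf J AddCommGrpCat.{max v w}) (s : F.obj.obj (op U)), F.obj.map p.op s = 0 → s = 0) :
    IsZero (Q.{w} J p) := by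
  rw [IsZero.iff_id_eq_zero]
  exact eq_zero_of_inj p _ (h _) _

end K343.QObj
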