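import Groth.Agent.HTop.K343.Push
import Groth.Agent.HTop.K343.QObj

/-!
# The adjunction `f_big⁻¹ ⊣ f_{big,*}` and the object `Q f` of a morphism `f : V ⟶ U`

* `injective_pushBig`: `f_{big,*}` preserves injectives.
* `Qf K f`: the cokernel of `Z[V] ⟶ Z` on the big `K`-site of `U`; its inverse image to `V` vanishes
  (`isZero_pullBig_Qf`).
-/

set_option autoImplicit false
universe w u
open CategoryTheory CategoryTheory.Limits AlgebraicGeometry Opposite

noncomputable section

namespace K343.BigAdj

open Groth.Agent.Etrest Groth.Agent.Etrest.BigEtSite Groth.Agent.Etrest.BigPush K343.Basic K343.Res K343.Push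

attribute [local instance] isGrothendieckAbelian_AbK

variable (K : GrothendieckTopology Scheme.{u})

variable {X Y : Scheme.{u}} (f : X ⟶ Y)

/-- `f_big⁻¹`. -/
abbrev pullBigK : AbK K Y ⥤ AbK K X :=
  (Over.pullback f).sheafPullback AddCommGrpCat.{u + 1} (K.over Y) (K.over X)

/-- the adjunction. -/
abbrev bigAdj : pullBigK K f ⊣ pushBigK K f :=
  (Over.pullback f).sheafAdjunctionContinuous AddCommGrpCat.{u + 1} (K.over Y) (K.over X)

instance : PreservesLimitsOfSize.{0, 0} (Over.pullback f) :=
  (Over.mapPullbackAdj f).rightAdjoint_preservesLimits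

instance : PreservesFiniteLimits (Over.pullback f) :=
  PreservesLimitsOfSize.preservesFiniteLimits _

instance : RepresentablyFlat (Over.pullback f) := flat_of_preservesFiniteLimits _

theorem pullBig_preservesFiniteLimits : PreservesFiniteLimits (pullBigK K f) := by
  have hfl : ∀ K : (Over X)ᵒᵖ, IsFiltered (CostructuredArrow (Over.pullback f).op K) := fun K =>
    IsFiltered.of_equivalence (structuredArrowOpEquivalence (Over.pullback f) (unop K))
  have : ∀ K : (Over X)ᵒᵖ, HasColimitsOfShape (CostructuredArrow (Over.pullback f).op K)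
      AddCommGrpCat.{u + 1} := fun K => inferInstance
  have : PreservesFiniteLimits ((Over.pullback f).op.lan :
      (_ ⥤ AddCommGrpCat.{u + 1}) ⥤ (Over X)ᵒᵖ ⥤ AddCommGrpCat.{u + 1}) :=
    Groth.Agent.Etbase.LanFlat.preservesFiniteLimits_op_lan _ _ (fun K => by
      have := hfl K
      have : HasFilteredColimitsOfSize.{u, u + 1} AddCommGrpCat.{u + 1} :=
        hasFilteredColimitsOfSize_shrink.{u, u + 1, u + 1, u + 1}
      have : AB5OfSize.{u, u + 1} AddCommGrpCat.{u + 1} := AB5OfSize_shrink.{u, u + 1, u + 1, u + 1} _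
      exact HasExactColimitsOfShape.preservesFiniteLimits)
  exact Functor.sheafPullbackConstruction.preservesFiniteLimits _ _ _ _

theorem injective_pushBig (I : AbK K X) (hI : Injective I) :
    Injective ((pushBigK K f).obj I) := by
  have := pullBig_preservesFiniteLimits K f
  exact Injective.injective_of_adjoint (bigAdj K f) I

/-- `X ⟶ Y` as a morphism to the final object of `Over Y`. -/
abbrev toTop : Over.mk f ⟶ Over.mk (𝟙 Y) := Over.homMk f (Category.comp_id f)

/-- `Z_Y / Z[X]`. -/
abbrev Qf : AbK K Y := QObj.Q.{u + 1} (J := K.over Y) (toTop f)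

theorem push_inj (G : AbK K X) (s : ((pushBigK K f).obj G).obj.obj (op (Over.mk (𝟙 Y))))
    (hs : ((pushBigK K f).obj G).obj.map (toTop f).op s = 0) : s = 0 := by
  let A : Over X := (Over.pullback f).obj (Over.mk (𝟙 Y))
  let B : Over X := (Over.pullback f).obj (Over.mk f)
  let p : B ⟶ A := (Over.pullback f).map (toTop f)
  -- `A` is final
  have hA : IsTerminal A := IsTerminal.isTerminalObj (Over.pullback f) (Over.mk (𝟙 Y)) Over.mkIdTerminal
  let δ : Over.mk (𝟙 X) ⟶ B := Over.homMk (pullback.lift (𝟙 X) (𝟙 X) rfl) (pullback.lift_snd _ _ _)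
  let σ : A ⟶ B := Over.mkIdTerminal.from A ≫ δ
  have h1 : σ ≫ p = 𝟙 A := hA.hom_ext _ _
  have key : ∀ s : G.obj.obj (op A), G.obj.map p.op s = 0 → s = 0 := by
    intro s hs
    have h2 : G.obj.map (σ ≫ p).op s = 0 := by
      rw [op_comp, G.obj.map_comp, ConcreteCategory.comp_apply, hs, map_zero]
    rw [h1, op_id, G.obj.map_id] at h2
    exact h2
  exact key s hs

theorem isZero_pullBig_Qf : IsZero ((pullBigK K f).obj (Qf K f)) := by
  rw [IsZero.iff_id_eq_zero]
  apply ((bigAdj K f).homEquiv _ _).injective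
  have h : ∀ φ : Qf K f ⟶ (pushBigK K f).obj ((pullBigK K f).obj (Qf K f)), φ = 0 :=
    QObj.eq_zero_of_inj _ _ (push_inj K f _)
  rw [h ((bigAdj K f).homEquiv _ _ (𝟙 _)), h ((bigAdj K f).homEquiv _ _ 0)]

end K343.BigAdj
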