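import Groth.Agent.HTop.K343.Main

/-!
# The restriction `ε_*` to the big étale site, in the form of the prelude
-/

set_option autoImplicit false
universe w u
open CategoryTheory CategoryTheory.Limits AlgebraicGeometry Opposite
open CategoryTheory.Abelian (Ext)

noncomputable section

namespace K343.Eps

open Groth.Agent.Etrest Groth.Agent.Etrest.BigEtSite Groth.Agent.Etrest.BigPush K343.Basic K343.Res K343.Push
open K343.BigAdj K343.ExtVan K343.Glue K343.Topo K343.GenTop K343.Van K343.Main

attribute [local instance] isGrothendieckAbelian_AbK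

variable (K : GrothendieckTopology Scheme.{u}) [Gen K]

/-- `ε_*`. -/
abbrev epsK (X : Scheme.{u}) [(𝟭 (Over X)).IsContinuous (JE X) (K.over X)] : AbK K X ⥤ AbE X :=
  (𝟭 (Over X)).sheafPushforwardContinuous AddCommGrpCat.{u + 1} (JE X) (K.over X)

instance (X : Scheme.{u}) [(𝟭 (Over X)).IsContinuous (JE X) (K.over X)] : (epsK K X).Additive where

/-- comparison with `toE`. -/
def epsIso (X : Scheme.{u}) [(𝟭 (Over X)).IsContinuous (JE X) (K.over X)] : epsK K X ≅ toE K X :=
  NatIso.ofComponents (fun _ => Iso.refl _) (fun φ => by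
    simp only [Iso.refl_hom]
    rfl)

theorem isZero_rightDerived_of_iso {C D : Type*} [Category* C] [Category* D] [Abelian C] [Abelian D]
    [HasInjectiveResolutions C] {F G : C ⥤ D} [F.Additive] [G.Additive] (e : F ≅ G) (n : ℕ) (A : C)
    (h : IsZero ((G.rightDerived n).obj A)) : IsZero ((F.rightDerived n).obj A) := by
  refine h.of_iso ?_
  refine ⟨(NatTrans.rightDerived e.hom n).app A, (NatTrans.rightDerived e.inv n).app A, ?_, ?_⟩
  · rw [← NatTrans.comp_app, ← NatTrans.rightDerived_comp, Iso.hom_inv_id, NatTrans.rightDerived_id]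
    rfl
  · rw [← NatTrans.comp_app, ← NatTrans.rightDerived_comp, Iso.inv_hom_id, NatTrans.rightDerived_id]
    rfl

theorem eps_result (hPBC : PBC.{u}) (X : Scheme.{u}) [ContK K X] [(𝟭 (Over X)).IsContinuous (JE X) (K.over X)]
    (F : EtCoh.Ab X) (hF : EtCoh.IsTorsion F) :
    Nonempty ((epsK K X).obj ((aPullK K X).obj F) ≅ (aPullE X).obj F) ∧
    ∀ i : ℕ, 0 < i → IsZero (((epsK K X).rightDerived i).obj ((aPullK K X).obj F)) := by
  refine ⟨⟨(epsIso K X).app _ ≪≫ (aPullIsoE K X).app F⟩, fun i hi => ?_⟩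
  exact isZero_rightDerived_of_iso (epsIso K X) i _ (isZero_rightDerived_toE hPBC K X F hF i hi)

end K343.Eps
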