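import Groth.Agent.HTop.K343.BigAdj
import Groth.Agent.Etcore.PullJoint
import Groth.Agent.Etcore.Torsion

/-!
# Proper cohomological descent in terms of `Ext`

For `f : V ⟶ U` surjective, quasi-compact and quasi-separated, satisfying base change for torsion sheaves:
`Ext^n (Qf f, π⁻¹ F) = 0` for all `n` and all torsion `F` on the small étale site of `U`.
-/

set_option autoImplicit false
universe w u
open CategoryTheory CategoryTheory.Limits AlgebraicGeometry Opposite
open CategoryTheory.Abelian (Ext)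

noncomputable section

namespace K343.ExtVan

open Groth.Agent.Etrest Groth.Agent.Etrest.BigEtSite Groth.Agent.Etrest.BigPush K343.Basic K343.Res K343.Push
open K343.BigAdj

attribute [local instance] isGrothendieckAbelian_AbK

variable {U V : Scheme.{u}} (f : V ⟶ U)

/-- vanishing for a quotient from vanishing in the middle -/
theorem ext_eq_zero_of_shortExact {A : Type*} [Category* A] [Abelian A] [HasExt.{w} A] (Q : A)
    {S : ShortComplex A} (hS : S.ShortExact) (n : ℕ) (h₂ : ∀ x : Ext Q S.X₂ (n + 1), x = 0)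
    (h₃ : ∀ x : Ext Q S.X₃ n, x = 0) (x : Ext Q S.X₁ (n + 1)) : x = 0 := by
  obtain ⟨y, hy⟩ := Ext.covariant_sequence_exact₁ Q hS x (h₂ _) rfl
  rw [← hy, h₃ y, Ext.zero_comp]

/-- `Hom (Q, π⁻¹ F) = 0`. -/
theorem hom_Qf_eq_zero [Surjective f] (F : EtCoh.Ab U) (φ : Qf Scheme.etaleTopology f ⟶ (aPullE U).obj F) :
    φ = 0 := by
  apply QObj.eq_zero_of_inj
  intro s hs
  apply eq_of_jointly_surjective F (T := Over.mk (𝟙 U)) s 0
  intro x
  obtain ⟨y, hy⟩ := f.surjective x
  refine ⟨Over.mk f, toTop f, ⟨y, hy⟩, ?_⟩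
  rw [res_zero]
  exact hs

theorem mono_unit [Surjective f] (F : EtCoh.Ab U) : Mono ((EtCoh.pullPushAdj f).unit.app F) := by
  refine Groth.Agent.Etcore.PullJoint.mono_of_pull (fun _ : Unit => f)
    (fun x => let ⟨y, hy⟩ := f.surjective x; ⟨(), y, hy⟩) _ fun _ => ?_
  have h := (EtCoh.pullPushAdj f).left_triangle_components F
  have : Mono ((EtCoh.pull f).map ((EtCoh.pullPushAdj f).unit.app F) ≫
      (EtCoh.pullPushAdj f).counit.app ((EtCoh.pull f).obj F)) := by
    rw [h]
    exact inferInstanceAs (Mono (𝟙 ((EtCoh.pull f).obj F)))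
  exact mono_of_mono _ ((EtCoh.pullPushAdj f).counit.app ((EtCoh.pull f).obj F))

/-- `uRes t` preserves epimorphisms. -/
theorem epi_uRes {X T : Scheme.{u}} (t : T ⟶ X) {H H' : AbE X} (φ : H ⟶ H') [Epi φ] : Epi ((uRes t).map φ) := by
  have : (uRes t).PreservesEpimorphisms := Functor.preservesEpimorphisms_of_adjunction (uAdj t)
  infer_instance

theorem epi_toE {X : Scheme.{u}} {H H' : AbK Scheme.etaleTopology X} (φ : H ⟶ H') (h : Epi φ) :
    Epi ((toE Scheme.etaleTopology X).map φ) := h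

/-- `R^q (-|_T) = 0` for `q > 0`, étale case. -/
theorem isZero_uResE {X T : Scheme.{u}} (t : T ⟶ X) (G : AbK Scheme.etaleTopology X) (q : ℕ) (hq : 0 < q) :
    IsZero (((uResK Scheme.etaleTopology t).rightDerived q).obj G) := by
  refine RAcyc.isZero_rightDerived_of_class (uResK Scheme.etaleTopology t) (fun _ => True) ?_ trivial q hq
  intro S hS _ _
  refine ⟨trivial, ?_⟩
  have h1 := epi_toE S.g hS.epi_g
  exact epi_uRes t ((toE Scheme.etaleTopology X).map S.g)

instance contE (X : Scheme.{u}) : ContK Scheme.etaleTopology X :=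
  inferInstanceAs ((EtFppf.a X).IsContinuous X.smallEtaleTopology (JE X))

section

variable 
    (h0 : ∀ (F : EtCoh.Ab V) (T X' : Scheme.{u}) (t : T ⟶ U) (f' : X' ⟶ T) (t' : X' ⟶ V) (hp : IsPullback t' f' f t), 
      IsIso (EtCoh.baseChange0 f t f' t' hp.w F))
    (hBC : ∀ (F : EtCoh.Ab V) (_ : EtCoh.IsTorsion F) (T X' : Scheme.{u}) (t : T ⟶ U) (f' : X' ⟶ T) (t' : X' ⟶ V) 
      (_ : IsPullback t' f' f t) (q : ℕ), Nonempty ((EtCoh.pull t).obj ((EtCoh.Rpush f q).obj F) ≅ 
        (EtCoh.Rpush f' q).obj ((EtCoh.pull t').obj F))) 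

include hBC in
theorem isZero_RpushBigE [QuasiCompact f] [QuasiSeparated f] (J : EtCoh.Ab V) [Injective J] (q : ℕ) (hq : 0 < q) :
    IsZero (((pushBigK Scheme.etaleTopology f).rightDerived q).obj
      ((aPullK Scheme.etaleTopology V).obj (Tors.tor.obj J))) := by
  have hT : EtCoh.IsTorsion (Tors.tor.obj J) := TorsEt.isTorsion_tor J
  have hacyc : ∀ q : ℕ, 0 < q → IsZero ((EtCoh.Rpush f q).obj (Tors.tor.obj J)) := 
    fun q hq => AcycTors.isZero_Rpush_tor f J q hq
  refine isZero_RpushBig Scheme.etaleTopology f (Tors.tor.obj J) (fun T t q hq => isZero_uResE t _ q hq) ?_ q hq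
  intro T X' t f' t' hp q hq
  obtain ⟨e⟩ := hBC (Tors.tor.obj J) hT T X' t f' t' hp q
  exact (((EtCoh.pull t).map_isZero (hacyc q hq))).of_iso e.symm

include h0 hBC in
/-- `Ext (Q, π⁻¹ f_* I) = 0`. -/
theorem ext_push_eq_zero [QuasiCompact f] [QuasiSeparated f] (J : EtCoh.Ab V) [Injective J] (n : ℕ)
    (x : Ext (Qf Scheme.etaleTopology f) ((aPullE U).obj ((EtCoh.push f).obj (Tors.tor.obj J))) n) : x = 0 := by
  obtain ⟨e⟩ := RAcyc.nonempty_extAddEquiv (bigAdj Scheme.etaleTopology f)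
    (injective_pushBig Scheme.etaleTopology f) (isZero_RpushBigE f hBC J) (Qf Scheme.etaleTopology f) n
  have hz : ∀ y : Ext (Qf Scheme.etaleTopology f) ((pushBigK Scheme.etaleTopology f).obj
      ((aPullK Scheme.etaleTopology V).obj (Tors.tor.obj J))) n, y = 0 := by
    intro y
    apply e.injective
    rw [map_zero]
    have h1 : 𝟙 ((pullBigK Scheme.etaleTopology f).obj (Qf Scheme.etaleTopology f)) = 0 :=
      (IsZero.iff_id_eq_zero _).1 (isZero_pullBig_Qf Scheme.etaleTopology f)
    rw [← Ext.mk₀_id_comp (e y), h1, Ext.mk₀_zero, Ext.zero_comp]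
  have h1 := isIso_compE f (Tors.tor.obj J) (h0 _)
  have h2 := hz (x.comp (Ext.mk₀ (compE f (Tors.tor.obj J))) (add_zero n))
  have h3 : x = (x.comp (Ext.mk₀ (compE f (Tors.tor.obj J))) (add_zero n)).comp
      (Ext.mk₀ (inv (compE f (Tors.tor.obj J)))) (add_zero n) := by
    rw [Ext.comp_assoc_of_second_deg_zero, Ext.mk₀_comp_mk₀, IsIso.hom_inv_id, Ext.comp_mk₀_id]
  rw [h3, h2, Ext.zero_comp]

instance preservesFiniteLimits_aPullE (X : Scheme.{u}) : PreservesFiniteLimits (aPullE X) :=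
  preservesFiniteLimits_aPull Scheme.etaleTopology X

instance preservesFiniteColimits_aPullE (X : Scheme.{u}) : PreservesFiniteColimits (aPullE X) :=
  preservesFiniteColimits_aPull Scheme.etaleTopology X

instance additive_aPullE (X : Scheme.{u}) : (aPullE X).Additive :=
  additive_aPull Scheme.etaleTopology X

include h0 hBC in
/-- Cohomological descent: `Ext^n (Qf f, π⁻¹ F) = 0` for all torsion sheaves `F`. -/
theorem ext_eq_zero [QuasiCompact f] [QuasiSeparated f] [Surjective f] (n : ℕ) :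
    ∀ (F : EtCoh.Ab U) (_ : EtCoh.IsTorsion F) (x : Ext (Qf Scheme.etaleTopology f) ((aPullE U).obj F) n),
      x = 0 := by
  induction n with
  | zero =>
    intro F hF x
    obtain ⟨φ, rfl⟩ := (Ext.mk₀_bijective _ _).2 x
    rw [hom_Qf_eq_zero f F φ, Ext.mk₀_zero]
  | succ n ih =>
    intro F hF x
    have hG : EtCoh.IsTorsion ((EtCoh.pull f).obj F) := Groth.Agent.Etcore.Torsion.isTorsion_pull f F hF
    obtain ⟨J, hJ, i, hi⟩ := AcycTors.exists_mono_tor _ hG
    let m : F ⟶ (EtCoh.push f).obj (Tors.tor.obj J) :=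
      (EtCoh.pullPushAdj f).unit.app F ≫ (EtCoh.push f).map i
    have hm1 := mono_unit f F
    have hm2 : Mono ((EtCoh.push f).map i) := inferInstance
    have hm : Mono m := mono_comp _ _
    let S : ShortComplex (EtCoh.Ab U) := ShortComplex.mk m (cokernel.π m) (cokernel.condition m)
    have hS : S.ShortExact :=
      { exact := ShortComplex.exact_of_g_is_cokernel _ (cokernelIsCokernel m) }
    have hT : EtCoh.IsTorsion (Tors.tor.obj J) := TorsEt.isTorsion_tor J
    have hM : EtCoh.IsTorsion ((EtCoh.push f).obj (Tors.tor.obj J)) := by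
      have h1 := Groth.Agent.S0125.result f (Tors.tor.obj J) hT 0
      exact TorsEt.isTorsion_of_iso ((EtCoh.push f).rightDerivedZeroIsoSelf.app (Tors.tor.obj J)) h1
    have hC : EtCoh.IsTorsion (cokernel m) := TorsEt.isTorsion_of_epi (cokernel.π m) hM
    have hS' : (S.map (aPullE U)).ShortExact := hS.map_of_exact (aPullE U)
    exact ext_eq_zero_of_shortExact (Qf Scheme.etaleTopology f) hS' n
      (fun y => ext_push_eq_zero f h0 hBC J (n + 1) y) (fun y => ih _ hC y) x

end

end K343.ExtVan
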