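import Groth.Agent.HTop.K343.GenTop
import Groth.Agent.HTop.K343.EtLe
import Groth.Agent.S8978

/-!
# The h topology is generated by open coverings and proper surjective morphisms of finite presentation
-/

set_option autoImplicit false
universe w u
open CategoryTheory CategoryTheory.Limits AlgebraicGeometry Opposite

namespace K343.GenH

open K343.Topo K343.GenTop K343.EtLe HTop

/-- `hTopology ≤ L` as soon as `L` contains Zariski coverings and proper surjective morphisms of finite
presentation. -/
theorem hTopology_le (L : GrothendieckTopology Scheme.{u}) (hZ : Scheme.zariskiTopology ≤ L)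
    (hP : ∀ {V U : Scheme.{u}} (f : V ⟶ U), IsProper f → Surjective f → LocallyOfFinitePresentation f →
      Sieve.generate (Presieve.singleton f) ∈ L U) : HTop.hTopology ≤ L := by
  refine Precoverage.toGrothendieck_le_iff_le_toPrecoverage.2 ?_
  intro T R hR
  obtain ⟨E, hE, rfl⟩ := PreZeroHypercoverFamily.mem_precoverage_iff.1 hR
  have hE' : IsHCover E := hE
  change Sieve.generate E.presieve₀ ∈ L T
  apply mem_of_zariski_local L hZ
  intro x
  obtain ⟨_, ⟨U, hU, rfl⟩, hx, -⟩ := T.isBasis_affineOpens.exists_subset_of_mem_open (Set.mem_univ x) isOpen_univ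
  have hUaff : IsAffine (U : Scheme.{u}) := hU
  refine ⟨_, Scheme.Opens.ι U, inferInstance, by rwa [Scheme.Opens.range_ι], ?_⟩
  have hEU : IsHCover (E.pullback₁ (Scheme.Opens.ι U)) := by
    refine ⟨fun i => ?_, K346.VStable.isVCover_pullback₁ _ E hE'.2⟩
    have := hE'.1 i
    exact inferInstanceAs (LocallyOfFinitePresentation (pullback.fst (Scheme.Opens.ι U) (E.f i)))
  obtain ⟨W, f, n, V, h1, h2, h3, -, h5, h6⟩ := Groth.Agent.S8978.result _ hEU
  refine L.transitive (hP f h1 h2 h3) _ ?_
  rintro Y g ⟨W', k, _, ⟨⟩, rfl⟩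
  rw [Sieve.pullback_comp]
  apply L.pullback_stable
  apply hZ
  rw [mem_zariski_iff]
  intro w
  have hw : w ∈ (⊤ : W.Opens) := trivial
  rw [← h5, TopologicalSpace.Opens.mem_iSup] at hw
  obtain ⟨j, hj⟩ := hw
  obtain ⟨i, h, hh⟩ := h6 j
  refine ⟨_, (V j).ι, ?_, inferInstance, by rwa [Scheme.Opens.range_ι]⟩
  refine ⟨E.X i, h ≫ pullback.snd (Scheme.Opens.ι U) (E.f i), E.f i, ⟨i⟩, ?_⟩
  have h7 : h ≫ pullback.fst (Scheme.Opens.ι U) (E.f i) = (V j).ι ≫ f := hh
  exact (Category.assoc _ _ _).trans ((congrArg (fun z => h ≫ z) pullback.condition.symm).trans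
    ((Category.assoc _ _ _).symm.trans ((congrArg (fun z => z ≫ Scheme.Opens.ι U) h7).trans
      (Category.assoc _ _ _))))

instance gen_h : Gen HTop.hTopology.{u} where
  le := etale_le_h
  le_ph := hTopology_le _ zariski_le_ph (fun f h1 h2 h3 => singleton_mem_ph f)
  gen L hZ hP := hTopology_le L hZ (fun f h1 h2 h3 => hP f h1 h2 (singleton_mem_h f))

end K343.GenH
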