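import Groth.Agent.HTop.K343.Res
import Groth.Agent.Etrest.BigPush3
import Groth.Agent.Etrest.AcycTors

/-!
# Higher direct images on the big `K`-site of sheaves coming from the small étale site
-/

set_option autoImplicit false
universe w u
open CategoryTheory CategoryTheory.Limits AlgebraicGeometry Opposite

noncomputable section

namespace K343.Push

open Groth.Agent.Etrest Groth.Agent.Etrest.BigEtSite Groth.Agent.Etrest.BigPush K343.Basic K343.Res


attribute [local instance] isGrothendieckAbelian_AbK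

variable (K : GrothendieckTopology Scheme.{u})

variable {X Y : Scheme.{u}} (f : X ⟶ Y)

instance preservesFiniteLimits_pushBig : PreservesFiniteLimits (pushBigK K f) := by
  have h1 : PreservesFiniteLimits (pushBigK K f ⋙ sheafToPresheaf (K.over Y) AddCommGrpCat.{u + 1}) := 
    inferInstanceAs (PreservesFiniteLimits (sheafToPresheaf (K.over X) AddCommGrpCat.{u + 1} ⋙ 
      (Functor.whiskeringLeft _ _ AddCommGrpCat.{u + 1}).obj (Over.pullback f).op))
  exact preservesFiniteLimits_of_reflects_of_preserves (pushBigK K f) 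
    (sheafToPresheaf (K.over Y) AddCommGrpCat.{u + 1})

instance additive_aPush (X : Scheme.{u}) [ContK K X] : (aPushK K X).Additive where

instance additive_aPull (X : Scheme.{u}) [ContK K X] : (aPullK K X).Additive :=
  (aAdjK K X).left_adjoint_additive

instance preservesFiniteColimits_aPull (X : Scheme.{u}) [ContK K X] : 
    PreservesFiniteColimits (aPullK K X) :=
  have : PreservesColimitsOfSize.{0, 0} (aPullK K X) := (aAdjK K X).leftAdjoint_preservesColimits
  PreservesColimitsOfSize.preservesFiniteColimits _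

instance preservesFiniteLimits_aPull (X : Scheme.{u}) [ContK K X] : 
    PreservesFiniteLimits (aPullK K X) := aPull_preservesFiniteLimits K X

variable [Good K]

/-- `f_{big,*} ⋙ (-)|_T ≅ (-)|_{X'} ⋙ f'_*`. -/
def kappaK {T X' : Scheme.{u}} {t : T ⟶ Y} {f' : X' ⟶ T} {t' : X' ⟶ X} (hp : IsPullback t' f' f t) :
    pushBigK K f ⋙ uResK K t ≅ uResK K t' ⋙ EtCoh.push f' :=
  NatIso.ofComponents (fun H => @asIso _ _ _ _ ((kappa f hp.w).app ((toE K X).obj H)) (isIso_kappa_app f hp _)) 
    (fun φ => (kappa f hp.w).naturality ((toE K X).map φ))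

theorem isZero_RpushBig [ContK K X] (F : EtCoh.Ab X)
    (hL : ∀ (T : Scheme.{u}) (t : T ⟶ X) (q : ℕ), 0 < q → 
      IsZero (((uResK K t).rightDerived q).obj ((aPullK K X).obj F)))
    (hV : ∀ (T X' : Scheme.{u}) (t : T ⟶ Y) (f' : X' ⟶ T) (t' : X' ⟶ X) (_ : IsPullback t' f' f t) (q : ℕ), 0 < q →
      IsZero ((EtCoh.Rpush f' q).obj ((EtCoh.pull t').obj F))) (q : ℕ) (hq : 0 < q) : 
    IsZero (((pushBigK K f).rightDerived q).obj ((aPullK K X).obj F)) := by
  let G := (aPullK K X).obj F
  let I := InjectiveResolution.of G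
  apply RAcyc.isZero_rightDerived_of_exactAt (pushBigK K f) I q
  apply exactAt_of_uResK
  intro T t
  let t' := pullback.fst f t
  let f' := pullback.snd f t
  have hp : IsPullback t' f' f t := IsPullback.of_hasPullback f t
  have h1 : ∀ n, (((uResK K t').mapHomologicalComplex (ComplexShape.up ℕ)).obj I.cocomplex).ExactAt (n + 1) :=
    fun n => RAcyc.exactAt_of_isZero_rightDerived (uResK K t') I (n + 1) (hL _ t' (n + 1) n.succ_pos)
  let J := RAcyc.mapResolution (uResK K t') I (fun J hJ => injective_uResK K t' J) h1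
  have h2 : IsZero (((EtCoh.push f').rightDerived q).obj ((uResK K t').obj G)) := 
    IsZero.of_iso (hV _ _ t f' t' hp q hq) (((EtCoh.push f').rightDerived q).mapIso ((pullIsoK K t').app F))
  have h3 := RAcyc.exactAt_of_isZero_rightDerived (EtCoh.push f') J q h2
  have h4 : ((I.cocomplex.sc q).map (uResK K t' ⋙ EtCoh.push f')).Exact := h3
  have h5 : ((I.cocomplex.sc q).map (pushBigK K f ⋙ uResK K t)).Exact := 
    (ShortComplex.exact_iff_of_iso ((I.cocomplex.sc q).mapNatIso (kappaK K f hp))).2 h4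
  exact h5

theorem compF_naturality [ContK K X] [ContK K Y] {F F' : EtCoh.Ab X} (φ : F ⟶ F') : 
    (aPullK K Y).map ((EtCoh.push f).map φ) ≫ Basic.compF K f F' = 
      Basic.compF K f F ≫ (pushBigK K f).map ((aPullK K X).map φ) := by
  apply (toE K Y).map_injective
  rw [CategoryTheory.Functor.map_comp, CategoryTheory.Functor.map_comp, Basic.compF, Basic.compF, 
    (toEFullyFaithful K Y).map_preimage, (toEFullyFaithful K Y).map_preimage]
  have e1 := (aPullIsoE K Y).hom.naturality ((EtCoh.push f).map φ)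
  have e2 := compE_naturality f φ
  have e3 := (aPullIsoE K X).inv.naturality φ
  refine (Category.assoc _ _ _).symm.trans ?_
  refine (congrArg (fun k => k ≫ _) e1).trans ?_
  refine (Category.assoc _ _ _).trans ?_
  refine (congrArg (fun k => _ ≫ k) (Category.assoc _ _ _).symm).trans ?_
  refine (congrArg (fun k => _ ≫ k) (congrArg (fun k => k ≫ _) e2)).trans ?_
  refine Eq.trans ?_ (Category.assoc _ _ _).symm
  refine congrArg (fun k => _ ≫ k) ?_
  refine (Category.assoc _ _ _).trans ?_
  refine Eq.trans ?_ (Category.assoc _ _ _).symm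
  refine congrArg (fun k => _ ≫ k) ?_
  exact (CategoryTheory.Functor.map_comp (pushBigE f) _ _).symm.trans 
    ((congrArg (pushBigE f).map e3).trans (CategoryTheory.Functor.map_comp (pushBigE f) _ _))

/-- Natural comparison isomorphism on the big `K`-sites, under base change in degree zero. -/
def compFIso [ContK K X] [ContK K Y] 
    (h : ∀ (F : EtCoh.Ab X) (T X' : Scheme.{u}) (t : T ⟶ Y) (f' : X' ⟶ T) (t' : X' ⟶ X) (hp : IsPullback t' f' f t), 
      IsIso (EtCoh.baseChange0 f t f' t' hp.w F)) : 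
    EtCoh.push f ⋙ aPullK K Y ≅ aPullK K X ⋙ pushBigK K f :=
  NatIso.ofComponents (fun F => @asIso _ _ _ _ (Basic.compF K f F) (Basic.isIso_compF K f F (h F))) 
    (fun φ => compF_naturality K f φ)

/-- Comparison for torsion sheaves, `f` quasi-compact quasi-separated, under proper base change. -/
theorem nonempty_iso_of_torsion [QuasiCompact f] [QuasiSeparated f] [ContK K X] [ContK K Y] 
    (hL : ∀ (F : EtCoh.Ab X) (_ : EtCoh.IsTorsion F) (T : Scheme.{u}) (t : T ⟶ X) (q : ℕ), 0 < q → 
      IsZero (((uResK K t).rightDerived q).obj ((aPullK K X).obj F)))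
    (h0 : ∀ (F : EtCoh.Ab X) (T X' : Scheme.{u}) (t : T ⟶ Y) (f' : X' ⟶ T) (t' : X' ⟶ X) (hp : IsPullback t' f' f t), 
      IsIso (EtCoh.baseChange0 f t f' t' hp.w F))
    (hBC : ∀ (F : EtCoh.Ab X) (_ : EtCoh.IsTorsion F) (T X' : Scheme.{u}) (t : T ⟶ Y) (f' : X' ⟶ T) (t' : X' ⟶ X) 
      (_ : IsPullback t' f' f t) (q : ℕ), Nonempty ((EtCoh.pull t).obj ((EtCoh.Rpush f q).obj F) ≅ 
        (EtCoh.Rpush f' q).obj ((EtCoh.pull t').obj F))) 
    (F : EtCoh.Ab X) (hF : EtCoh.IsTorsion F) (i : ℕ) : 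
    Nonempty ((aPullK K Y).obj ((EtCoh.Rpush f i).obj F) ≅
      ((pushBigK K f).rightDerived i).obj ((aPullK K X).obj F)) := by
  refine Eff.nonempty_iso (EtCoh.push f) (aPullK K Y) (aPullK K X) (pushBigK K f) (compFIso K f h0)
    EtCoh.IsTorsion (fun p hp h => TorsEt.isTorsion_of_epi p h) ?_ F hF i
  intro F hF
  obtain ⟨J, hJ, i, hi⟩ := AcycTors.exists_mono_tor F hF
  have hT : EtCoh.IsTorsion (Tors.tor.obj J) := TorsEt.isTorsion_tor J
  refine ⟨Tors.tor.obj J, i, hi, hT, fun q hq => ?_⟩
  have hacyc : ∀ q : ℕ, 0 < q → IsZero ((EtCoh.Rpush f q).obj (Tors.tor.obj J)) := 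
    fun q hq => AcycTors.isZero_Rpush_tor f J q hq
  refine ⟨hacyc q hq, isZero_RpushBig K f (Tors.tor.obj J) (hL _ hT) ?_ q hq⟩
  intro T X' t f' t' hp q hq
  obtain ⟨e⟩ := hBC (Tors.tor.obj J) hT T X' t f' t' hp q
  exact (((EtCoh.pull t).map_isZero (hacyc q hq))).of_iso e.symm

end K343.Push
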