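import Groth.Agent.HTop.K343.GenTop
import Mathlib.CategoryTheory.Adjunction.Restrict
import Mathlib.CategoryTheory.Abelian.Injective.Ext

/-!
# Vanishing of `R^q ε_* (a⁻¹ F)` for torsion `F`
-/

set_option autoImplicit false
universe w u
open CategoryTheory CategoryTheory.Limits AlgebraicGeometry Opposite
open CategoryTheory.Abelian (Ext)

noncomputable section

namespace K343.Van

open Groth.Agent.Etrest Groth.Agent.Etrest.BigEtSite Groth.Agent.Etrest.BigPush K343.Basic K343.Res K343.Push
open K343.BigAdj K343.ExtVan K343.Glue K343.Topo K343.GenTop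

attribute [local instance] isGrothendieckAbelian_AbK

variable (K : GrothendieckTopology Scheme.{u}) [Good K]

/-- Sheafification. -/
abbrev fromE (X : Scheme.{u}) : AbE X ⥤ AbK K X :=
  sheafToPresheaf (JE X) AddCommGrpCat.{u + 1} ⋙ presheafToSheaf (K.over X) AddCommGrpCat.{u + 1}

/-- Sheafification is left adjoint to the inclusion. -/
def fromEAdj (X : Scheme.{u}) : fromE K X ⊣ toE K X :=
  (sheafificationAdjunction (K.over X) AddCommGrpCat.{u + 1}).restrictFullyFaithful
    (fullyFaithfulSheafToPresheaf (JE X) AddCommGrpCat.{u + 1}) (Functor.FullyFaithful.id _)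
    (Functor.rightUnitor _).symm
    (NatIso.ofComponents (fun _ => Iso.refl _) (fun φ => by
      simp only [Iso.refl_hom]
      rfl))

theorem injective_toE (X : Scheme.{u}) (I : AbK K X) [Injective I] : Injective ((toE K X).obj I) := by
  have : PreservesFiniteLimits (fromE K X) := comp_preservesFiniteLimits _ _
  exact Injective.injective_of_adjoint (fromEAdj K X) I

/-- The class of sheaves satisfying descent in all degrees. -/
def Cls {X : Scheme.{u}} (G : AbK K X) : Prop :=
  ∀ (U : Scheme.{u}) (j : U ⟶ X) (V : Scheme.{u}) (f : V ⟶ U), IsProper f → Surjective f →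
    Sieve.generate (Presieve.singleton f) ∈ K U → ∀ (n : ℕ)
      (x : Ext (Qf Scheme.etaleTopology f) ((mapResE j).obj ((toE K X).obj G)) n), x = 0

/-- `Hom (Qf f, H) = 0` for a `K`-sheaf `H`, if `f` is a `K`-covering. -/
theorem hom_eq_zero {X U V : Scheme.{u}} (H : AbK K X) (j : U ⟶ X) (f : V ⟶ U)
    (hf : Sieve.generate (Presieve.singleton f) ∈ K U)
    (φ : Qf Scheme.etaleTopology f ⟶ (mapResE j).obj ((toE K X).obj H)) : φ = 0 := by
  apply QObj.eq_zero_of_inj
  intro s hs
  have hsh : Presieve.IsSheaf (K.over X) (H.obj ⋙ forget AddCommGrpCat.{u + 1}) :=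
    (isSheaf_iff_isSheaf_of_type _ _).1 
      (Presheaf.isSheaf_comp_of_isSheaf (K.over X) H.obj (forget AddCommGrpCat.{u + 1}) H.property)
  let Y : Over X := (Over.map j).obj (Over.mk (𝟙 U))
  have hR : ov Y (Sieve.generate (Presieve.singleton f)) ∈ K.over X Y := ov_mem K Y _ hf
  refine (hsh.isSeparated _ hR).ext (t₁ := s) (t₂ := (0 : H.obj.obj (op Y))) ?_
  rintro Z k ⟨_, l, _, ⟨⟩, hl⟩
  let k' : Z ⟶ (Over.map j).obj (Over.mk f) := Over.homMk l (by
    have h1 := Over.w k
    change l ≫ (f ≫ j) = Z.hom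
    rw [← h1, ← hl]
    change _ = (l ≫ f) ≫ 𝟙 U ≫ j
    rw [Category.id_comp, Category.assoc])
  have hk : k = k' ≫ (Over.map j).map (toTop f) := by
    ext
    exact hl.symm
  have h2 : H.obj.map ((Over.map j).map (toTop f)).op s = 0 := hs
  change H.obj.map k.op s = H.obj.map k.op 0
  rw [map_zero]
  have h3 : H.obj.map k.op s = H.obj.map k'.op (H.obj.map ((Over.map j).map (toTop f)).op s) := by
    refine (congrArg (fun z => H.obj.map (Quiver.Hom.op z) s) hk).trans ?_
    rw [op_comp, H.obj.map_comp]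
    rfl
  rw [h3, h2, map_zero]

theorem cls_injective {X U V : Scheme.{u}} (I : AbK K X) [Injective I] (j : U ⟶ X) (f : V ⟶ U)
    (hf : Sieve.generate (Presieve.singleton f) ∈ K U) (n : ℕ)
    (x : Ext (Qf Scheme.etaleTopology f) ((mapResE j).obj ((toE K X).obj I)) n) : x = 0 := by
  cases n with
  | zero =>
    obtain ⟨φ, rfl⟩ := (Ext.mk₀_bijective _ _).2 x
    rw [hom_eq_zero K I j f hf φ, Ext.mk₀_zero]
  | succ n =>
    have h1 : Injective ((mapRes K j).obj I) := injective_mapRes K j I
    have h2 : Injective ((toE K U).obj ((mapRes K j).obj I)) := injective_toE K U _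
    have h3 : Injective ((mapResE j).obj ((toE K X).obj I)) := h2
    exact Ext.eq_zero_of_injective x

instance preservesFiniteLimits_mapResE {X U : Scheme.{u}} (j : U ⟶ X) : PreservesFiniteLimits (mapResE j) :=
  inferInstanceAs (PreservesFiniteLimits (mapRes Scheme.etaleTopology j))

instance preservesFiniteColimits_mapResE {X U : Scheme.{u}} (j : U ⟶ X) : PreservesFiniteColimits (mapResE j) :=
  have : PreservesColimitsOfSize.{0, 0} (mapResE j) := (mapPushAdj j).leftAdjoint_preservesColimits
  PreservesColimitsOfSize.preservesFiniteColimits _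

instance additive_mapResE {X U : Scheme.{u}} (j : U ⟶ X) : (mapResE j).Additive where

theorem ext0_eq_zero {A : Type*} [Category* A] [Abelian A] [HasExt.{w} A] {Q G : A} (h : ∀ φ : Q ⟶ G, φ = 0)
    (x : Ext Q G 0) : x = 0 := by
  obtain ⟨φ, rfl⟩ := (Ext.mk₀_bijective _ _).2 x
  rw [h φ, Ext.mk₀_zero]

theorem hom_of_ext0 {A : Type*} [Category* A] [Abelian A] [HasExt.{w} A] {Q G : A}
    (h : ∀ x : Ext Q G 0, x = 0) (φ : Q ⟶ G) : φ = 0 := by
  apply (Ext.mk₀_bijective _ _).1
  rw [h (Ext.mk₀ φ), h (Ext.mk₀ 0)]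

/-- vanishing on a quotient -/
theorem ext_X₃ {A : Type*} [Category* A] [Abelian A] [HasExt.{w} A] (Q : A)
    {S : ShortComplex A} (hS : S.ShortExact) (n : ℕ) (h₂ : ∀ x : Ext Q S.X₂ n, x = 0)
    (h₁ : ∀ x : Ext Q S.X₁ (n + 1), x = 0) (x : Ext Q S.X₃ n) : x = 0 := by
  obtain ⟨y, hy⟩ := Ext.covariant_sequence_exact₃ Q hS x rfl (h₁ _)
  rw [← hy, h₂ y, Ext.zero_comp]

theorem ext_of_iso {A : Type*} [Category* A] [Abelian A] [HasExt.{w} A] (Q : A)
    {G H : A} (φ : G ⟶ H) [IsIso φ] (n : ℕ) (h : ∀ x : Ext Q G n, x = 0) (x : Ext Q H n) : x = 0 := by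
  have h3 : x = (x.comp (Ext.mk₀ (inv φ)) (add_zero n)).comp (Ext.mk₀ φ) (add_zero n) := by
    rw [Ext.comp_assoc_of_second_deg_zero, Ext.mk₀_comp_mk₀, IsIso.inv_hom_id, Ext.comp_mk₀_id]
  refine h3.trans ?_
  rw [h (x.comp (Ext.mk₀ (inv φ)) (add_zero n)), Ext.zero_comp]

/-- a sheaf of `AbE X` which is zero -/
theorem isZero_of_sections {X : Scheme.{u}} (E : AbE X) (h : ∀ (Y : Over X) (e : E.obj.obj (op Y)), e = 0) :
    IsZero E := by
  rw [IsZero.iff_id_eq_zero]
  apply (sheafToPresheaf _ _).map_injective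
  apply NatTrans.ext
  ext1 Y
  apply AddCommGrpCat.hom_ext
  ext e
  exact (h Y.unop _).trans (h Y.unop _).symm

theorem isZero_of_locally_zero [Gen K] {X : Scheme.{u}} (E : AbE X)
    (h1 : ∀ (U : Scheme.{u}) (j : U ⟶ X) (V : Scheme.{u}) (f : V ⟶ U), IsProper f → Surjective f →
      Sieve.generate (Presieve.singleton f) ∈ K U →
      ∀ (φ : Qf Scheme.etaleTopology f ⟶ (mapResE j).obj E), φ = 0)
    (h2 : ∀ (Y : Over X) (e : E.obj.obj (op Y)), ∃ R : Sieve Y, R ∈ K.over X Y ∧
      ∀ (Z : Over X) (k : Z ⟶ Y), R k → E.obj.map k.op e = 0) : IsZero E := by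
  have hsep : K ≤ sepTop (E.obj ⋙ forget AddCommGrpCat.{u + 1}) := by
    apply le_sepTop_of_gen
    · have hsh : Presieve.IsSheaf (JE X) (E.obj ⋙ forget AddCommGrpCat.{u + 1}) :=
        (isSheaf_iff_isSheaf_of_type _ _).1 
          (Presheaf.isSheaf_comp_of_isSheaf (JE X) E.obj (forget AddCommGrpCat.{u + 1}) E.property)
      intro Y R hR
      apply (hsh R ?_).isSeparatedFor
      rw [GrothendieckTopology.mem_over_iff] at hR ⊢
      exact zariski_le_etale _ hR
    · intro Y V p hp hs hK x y hxy
      have h3 : ∀ z : E.obj.obj (op Y), E.obj.map (hm Y p).op z = 0 → z = 0 := by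
        intro z hz
        have h4 := QObj.inj_of_eq_zero (toTop p) ((mapResE Y.hom).obj E) (h1 Y.left Y.hom V p hp hs hK)
          (E.obj.map (topIso Y).hom.op z) (by
            have h5 : (Over.map Y.hom).map (toTop p) ≫ (topIso Y).hom = hm Y p := by
              ext
              exact Category.comp_id _
            have h6 : E.obj.map ((Over.map Y.hom).map (toTop p) ≫ (topIso Y).hom).op z = 0 := by
              rw [h5]
              exact hz
            rw [op_comp, E.obj.map_comp] at h6
            exact h6)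
        have h7 : z = E.obj.map (topIso Y).inv.op (E.obj.map (topIso Y).hom.op z) := by
          have h8 : E.obj.map ((topIso Y).inv ≫ (topIso Y).hom).op z = z := by
            rw [Iso.inv_hom_id, op_id, E.obj.map_id]
            rfl
          rw [op_comp, E.obj.map_comp] at h8
          exact h8.symm
        rw [h7]
        have h9 : E.obj.map (topIso Y).hom.op z = 0 := h4
        rw [h9, map_zero]
      have h4 : ∀ x y : E.obj.obj (op Y), E.obj.map (hm Y p).op x = E.obj.map (hm Y p).op y → x = y := by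
        intro x y hxy
        exact sub_eq_zero.1 (h3 (x - y) (by rw [map_sub, hxy, sub_self]))
      exact h4 x y hxy
  have hsep' := isSeparated_of_le_sepTop K _ hsep
  apply isZero_of_sections
  intro Y e
  obtain ⟨R, hR, h⟩ := h2 Y e
  refine (hsep' R hR).ext (t₁ := e) (t₂ := (0 : E.obj.obj (op Y))) ?_
  intro Z k hk
  change E.obj.map k.op e = E.obj.map k.op 0
  rw [map_zero, h Z k hk]

theorem step [Gen K] {X : Scheme.{u}} (S : ShortComplex (AbK K X)) (hS : S.ShortExact) (hI : Injective S.X₂)
    (hG : Cls K S.X₁) : Cls K S.X₃ ∧ Epi ((toE K X).map S.g) := by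
  have hS1 := hS.mono_f
  have hS3 := hS.epi_g
  have hSR : (S.map (toE K X)).Exact := by
    have h := hS.exact.map_of_mono_of_preservesKernel (toE K X) hS1 inferInstance
    exact h
  let a : (toE K X).obj S.X₁ ⟶ (toE K X).obj S.X₂ := (toE K X).map S.f
  let b : (toE K X).obj S.X₂ ⟶ (toE K X).obj S.X₃ := (toE K X).map S.g
  have hab : a ≫ b = 0 := (S.map (toE K X)).zero
  have ha : Mono a := inferInstanceAs (Mono ((toE K X).map S.f))
  let q := cokernel.π a
  let m : cokernel a ⟶ (toE K X).obj S.X₃ := cokernel.desc a b hab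
  have hqm : q ≫ m = b := cokernel.π_desc _ _ _
  have hm : Mono m := hSR.mono_cokernelDesc
  let S₁ : ShortComplex (AbE X) := ShortComplex.mk a q (cokernel.condition a)
  have hS₁ : S₁.ShortExact :=
    { exact := ShortComplex.exact_of_g_is_cokernel _ (cokernelIsCokernel a)
      mono_f := ha
      epi_g := inferInstanceAs (Epi (cokernel.π a)) }
  let S₂ : ShortComplex (AbE X) := ShortComplex.mk m (cokernel.π m) (cokernel.condition m)
  have hS₂ : S₂.ShortExact :=
    { exact := ShortComplex.exact_of_g_is_cokernel _ (cokernelIsCokernel m)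
      mono_f := hm
      epi_g := inferInstanceAs (Epi (cokernel.π m)) }
  have hc : ∀ (U : Scheme.{u}) (j : U ⟶ X) (V : Scheme.{u}) (f : V ⟶ U), IsProper f → Surjective f →
      Sieve.generate (Presieve.singleton f) ∈ K U → ∀ (n : ℕ)
      (x : Ext (Qf Scheme.etaleTopology f) ((mapResE j).obj (cokernel a)) n), x = 0 := by
    intro U j V f hf hs hK n
    exact ext_X₃ _ (hS₁.map_of_exact (mapResE j)) n (cls_injective K S.X₂ j f hK n)
      (hG U j V f hf hs hK (n + 1))
  have hz : IsZero (cokernel m) := by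
    apply isZero_of_locally_zero K
    · intro U j V f hf hs hK φ
      exact hom_of_ext0 (ext_X₃ (Qf Scheme.etaleTopology f) (hS₂.map_of_exact (mapResE j)) 0
        (ext0_eq_zero (hom_eq_zero K S.X₃ j f hK)) (hc U j V f hf hs hK 1)) φ
    · intro Y e
      -- local surjectivity of the two epimorphisms
      have hl1 : Sheaf.IsLocallySurjective (cokernel.π m) := by
        rw [Sheaf.isLocallySurjective_iff_epi']
        infer_instance
      have hl2 : Sheaf.IsLocallySurjective S.g := by
        rw [Sheaf.isLocallySurjective_iff_epi']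
        infer_instance
      have hR1 : Presheaf.imageSieve (cokernel.π m).hom e ∈ JE X Y := 
        hl1.imageSieve_mem e
      let R : Sieve Y :=
        { arrows := fun Z k => (cokernel m).obj.map k.op e = 0
          downward_closed := by
            intro Z Z' k hk l
            rw [op_comp, (cokernel m).obj.map_comp, ConcreteCategory.comp_apply, hk, map_zero] }
      refine ⟨R, ?_, fun Z k hk => hk⟩
      refine (K.over X).transitive (le_over (K := K) X _ hR1) R ?_
      rintro Z k ⟨h, hh⟩
      have hR2 : Presheaf.imageSieve S.g.hom h ∈ K.over X Z := hl2.imageSieve_mem h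
      refine (K.over X).superset_covering ?_ hR2
      rintro W l ⟨i, hi⟩
      change (cokernel m).obj.map (l ≫ k).op e = 0
      have e1 : (cokernel m).obj.map (l ≫ k).op e = (cokernel m).obj.map l.op ((cokernel m).obj.map k.op e) := by
        rw [op_comp, (cokernel m).obj.map_comp]
        rfl
      rw [e1, ← hh]
      have e2 := ConcreteCategory.congr_hom ((cokernel.π m).hom.naturality l.op) h
      refine Eq.trans e2.symm ?_
      change (cokernel.π m).hom.app (op W) (S.X₃.obj.map l.op h) = 0
      rw [← hi]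
      have e3 : b ≫ cokernel.π m = 0 := by
        rw [← hqm, Category.assoc, cokernel.condition, comp_zero]
      have e4 := congrArg (fun φ => φ.hom.app (op W)) e3
      exact ConcreteCategory.congr_hom e4 i
  have hme : Epi m := by
    apply Preadditive.epi_of_cokernel_zero
    exact hz.eq_of_tgt _ _
  have hmi : IsIso m := isIso_of_mono_of_epi m
  refine ⟨?_, ?_⟩
  · intro U j V f hf hs hK n
    exact ext_of_iso _ ((mapResE j).map m) n (hc U j V f hf hs hK n)
  · change Epi b
    rw [← hqm]
    exact epi_comp _ _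

end K343.Van
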